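import Mathlib
import Cfsg.Agent.H369.PglSit
import Cfsg.Agent.H377.SpElt
import Cfsg.Agent.H376.CocPsp
import Cfsg.Agent.H374.SpFour
import Cfsg.Agent.S0814
import Cfsg.Agent.S0245
import Cfsg.Agent.S0246

/-!
# The row `PSp_{2n}(u)` of the recognition of `PGL_2(q)` by spectrum (helper421, for S3447)
-/

set_option autoImplicit false

namespace Cfsg.Agent.H421.PglSp

open Subgroup Cfsg.Agent.H369.Pgl

theorem pow_lin {b f : ℕ} (hb : 2 ≤ b) (hf : 1 ≤ f) : b * f ≤ b ^ f := by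
  obtain ⟨k, rfl⟩ : ∃ k, f = k + 1 := ⟨f - 1, by omega⟩
  rw [pow_succ']
  exact Nat.mul_le_mul_left b (Nat.lt_pow_self (by omega))

/-- two commuting independent elements of order `q` -/
theorem exists_sylow {G K L : Type*} [Group G] [Finite G] [Group K] [Group L] {q : ℕ} [hq : Fact q.Prime]
    (φ : K × L →* G) {a : K} {b : L} (ha : orderOf a = q) (hb : orderOf b = q)
    (hinj : ∀ i j : ℕ, φ (a ^ i, b ^ j) = 1 → a ^ i = 1 ∧ b ^ j = 1) :
    ∃ P : Sylow q G, ¬ IsCyclic P := by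
  let ψ : zpowers a × zpowers b →* G := φ.comp ((zpowers a).subtype.prodMap (zpowers b).subtype)
  have hψ : Function.Injective ψ := by
    rw [injective_iff_map_eq_one]
    rintro ⟨⟨x, hx⟩, ⟨y, hy⟩⟩ h
    have hfa : IsOfFinOrder a := by rw [← orderOf_pos_iff, ha]; exact hq.out.pos
    have hfb : IsOfFinOrder b := by rw [← orderOf_pos_iff, hb]; exact hq.out.pos
    obtain ⟨i, hi⟩ := hfa.mem_powers_iff_mem_zpowers.2 hx
    obtain ⟨j, hj⟩ := hfb.mem_powers_iff_mem_zpowers.2 hy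
    subst hi hj
    obtain ⟨h1, h2⟩ := hinj i j h
    exact Prod.ext (Subtype.ext h1) (Subtype.ext h2)
  have hcard : Nat.card ψ.range = q ^ 2 := by
    rw [Nat.card_congr (MonoidHom.ofInjective hψ).symm.toEquiv, Nat.card_prod, Nat.card_zpowers, Nat.card_zpowers,
      ha, hb, pow_two]
  obtain ⟨P, hP⟩ := (IsPGroup.of_card hcard).exists_le_sylow
  refine ⟨P, fun hc => ?_⟩
  have h1 : IsCyclic ψ.range := isCyclic_of_injective (Subgroup.inclusion hP) (Subgroup.inclusion_injective hP)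
  obtain ⟨⟨g, x, rfl⟩, hg⟩ := h1.exists_generator
  have h2 := orderOf_eq_card_of_forall_mem_zpowers hg
  rw [hcard] at h2
  have h3 : (⟨ψ x, x, rfl⟩ : ψ.range) ^ q = 1 := by
    apply Subtype.ext
    change ψ x ^ q = 1
    rw [← map_pow]
    have : x ^ q = 1 := by
      apply Prod.ext
      · apply Subtype.ext
        obtain ⟨k, hk⟩ := mem_zpowers_iff.1 x.1.2
        change (x.1 : K) ^ q = 1
        rw [← hk, ← zpow_natCast, zpow_comm a k q, zpow_natCast, ← ha, pow_orderOf_eq_one, one_zpow]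
      · apply Subtype.ext
        obtain ⟨k, hk⟩ := mem_zpowers_iff.1 x.2.2
        change (x.2 : L) ^ q = 1
        rw [← hk, ← zpow_natCast, zpow_comm b k q, zpow_natCast, ← hb, pow_orderOf_eq_one, one_zpow]
    rw [this, map_one]
  have h4 := orderOf_dvd_of_pow_eq_one h3
  rw [h2] at h4
  have h5 := Nat.le_of_dvd hq.out.pos h4
  have h6 := hq.out.two_le
  nlinarith

/-- `∏_{i<n} (u^(2(i+1)) - 1)` -/
theorem prod_split {u n : ℕ} (hn : 1 ≤ n) : ∏ i ∈ Finset.range n, (u ^ (2 * (i + 1)) - 1) =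
    (∏ i ∈ Finset.range (n - 1), (u ^ (2 * (i + 1)) - 1)) * ((u ^ n - 1) * (u ^ n + 1)) := by
  obtain ⟨k, rfl⟩ : ∃ k, n = k + 1 := ⟨n - 1, by omega⟩
  rw [Finset.prod_range_succ, Nat.add_sub_cancel]
  congr 1
  rw [mul_comm 2 (k + 1), pow_mul, mul_comm, ← Nat.sq_sub_sq, one_pow]

/-- **The numerical end** -/
theorem finish {S : Type*} [Group S] [Finite S] [IsSimpleGroup S] (hna : ¬ IsMulCommutative S) {p m : ℕ}
    {X : Subgroup (MulAut S)} (H : Sit S p m X)
    (h12 : ∃ g : S, 12 ∣ orderOf g) (h3 : ∃ P : Sylow 3 S, ¬ IsCyclic P) {u r f n : ℕ} (hr : r.Prime) (hf : 1 ≤ f)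
    (hu : u = r ^ f) (hn : 2 ≤ n)
    (hcard : Nat.card (MulAut S) ∣ f * (u ^ (n ^ 2) * ∏ i ∈ Finset.range n, (u ^ (2 * (i + 1)) - 1)))
    (hadj : ∀ s : ℕ, s.Prime → s ≠ 3 → (s ∣ u ∨ ∃ i, 1 ≤ i ∧ i < n ∧ s ∣ u ^ (2 * i) - 1) →
      ∃ g : S, s * 3 ∣ orderOf g)
    (hp : (Odd u ∧ (2 * p = u ^ n + 1 ∨ (3 ≤ n ∧ 2 * p = u ^ n - 1))) ∨
      (3 ≤ n ∧ (p = u ^ n + 1 ∨ p = u ^ n - 1))) : False := by
  have hu2 : 2 ≤ u := by
    rw [hu]
    calc 2 ≤ r := hr.two_le
      _ = r ^ 1 := (pow_one r).symm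
      _ ≤ r ^ f := Nat.pow_le_pow_right hr.pos hf
  set N := u ^ n with hN
  have hN4 : 4 ≤ N := by
    calc 4 = 2 ^ 2 := rfl
      _ ≤ u ^ 2 := Nat.pow_le_pow_left hu2 2
      _ ≤ u ^ n := Nat.pow_le_pow_right (by omega) hn
  have hP : 0 < ∏ i ∈ Finset.range (n - 1), (u ^ (2 * (i + 1)) - 1) := by
    apply Finset.prod_pos
    intro i _
    have : u ^ 1 ≤ u ^ (2 * (i + 1)) := Nat.pow_le_pow_right (by omega) (by omega)
    rw [pow_one] at this
    omega
  rw [prod_split (by omega)] at hcard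
  -- the primes of the first part
  have hfirst : ∀ s : ℕ, s.Prime → s ∣ u ^ (n ^ 2) * ∏ i ∈ Finset.range (n - 1), (u ^ (2 * (i + 1)) - 1) →
      s = 3 ∨ ∃ g : S, s * 3 ∣ orderOf g := by
    intro s hs hsd
    by_cases hs3 : s = 3
    · exact Or.inl hs3
    right
    apply hadj s hs hs3
    rcases (Nat.Prime.dvd_mul hs).1 hsd with h | h
    · left; exact hs.dvd_of_dvd_pow h
    · right
      obtain ⟨i, hi, h4⟩ := (hs.prime.dvd_finsetProd_iff _).1 h
      rw [Finset.mem_range] at hi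
      exact ⟨i + 1, by omega, by omega, h4⟩
  -- the sign `+`
  have hplus : (2 * p = N + 1 ∨ p = N + 1) → p ^ 2 - 1 ≤ 2 * ((N - 1) * f) := by
    intro hpp
    refine (H.three_card hna h12 h3 (A := (u ^ (n ^ 2) * ∏ i ∈ Finset.range (n - 1), (u ^ (2 * (i + 1)) - 1)) *
      (N + 1)) (B := (N - 1) * f) ?_ ?_ ?_).2.2
    · refine hcard.trans (dvd_of_eq ?_)
      ring
    · exact Nat.mul_pos (by omega) hf
    · intro s hs hsA
      rcases (Nat.Prime.dvd_mul hs).1 hsA with h | h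
      · rcases hfirst s hs h with h4 | ⟨g, hg⟩
        · exact Or.inr (Or.inl h4)
        · exact Or.inr (Or.inr (Or.inr ⟨g, Or.inl hg⟩))
      · rcases hpp with h4 | h4
        · rw [← h4] at h
          rcases (Nat.Prime.dvd_mul hs).1 h with h5 | h5
          · exact Or.inl ((Nat.prime_dvd_prime_iff_eq hs Nat.prime_two).1 h5)
          · exact Or.inr (Or.inr (Or.inl ((Nat.prime_dvd_prime_iff_eq hs H.hp).1 h5)))
        · rw [← h4] at h
          exact Or.inr (Or.inr (Or.inl ((Nat.prime_dvd_prime_iff_eq hs H.hp).1 h)))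
  have hminus : (2 * p = N - 1 ∨ p = N - 1) → p ^ 2 - 1 ≤ 2 * ((N + 1) * f) := by
    intro hpp
    refine (H.three_card hna h12 h3 (A := (u ^ (n ^ 2) * ∏ i ∈ Finset.range (n - 1), (u ^ (2 * (i + 1)) - 1)) *
      (N - 1)) (B := (N + 1) * f) ?_ ?_ ?_).2.2
    · refine hcard.trans (dvd_of_eq ?_)
      ring
    · exact Nat.mul_pos (by omega) hf
    · intro s hs hsA
      rcases (Nat.Prime.dvd_mul hs).1 hsA with h | h
      · rcases hfirst s hs h with h4 | ⟨g, hg⟩
        · exact Or.inr (Or.inl h4)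
        · exact Or.inr (Or.inr (Or.inr ⟨g, Or.inl hg⟩))
      · rcases hpp with h4 | h4
        · rw [← h4] at h
          rcases (Nat.Prime.dvd_mul hs).1 h with h5 | h5
          · exact Or.inl ((Nat.prime_dvd_prime_iff_eq hs Nat.prime_two).1 h5)
          · exact Or.inr (Or.inr (Or.inl ((Nat.prime_dvd_prime_iff_eq hs H.hp).1 h5)))
        · rw [← h4] at h
          exact Or.inr (Or.inr (Or.inl ((Nat.prime_dvd_prime_iff_eq hs H.hp).1 h)))
  have h8 : 3 ≤ n → 8 * f ≤ N := by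
    intro h3n
    calc 8 * f ≤ 8 ^ f := pow_lin (by norm_num) hf
      _ = (2 ^ f) ^ 3 := by rw [← pow_mul, mul_comm, pow_mul]; norm_num
      _ ≤ (r ^ f) ^ 3 := Nat.pow_le_pow_left (Nat.pow_le_pow_left hr.two_le f) 3
      _ = u ^ 3 := by rw [hu]
      _ ≤ u ^ n := Nat.pow_le_pow_right (by omega) h3n
  rcases hp with ⟨hodd, hp⟩ | ⟨hn3, hp⟩
  · have hr3 : 3 ≤ r := by
      have h4 : r ≠ 2 := by
        rintro rfl
        rw [hu] at hodd
        have : Even (2 ^ f) := (Nat.even_pow.2 ⟨even_two, by omega⟩)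
        exact (Nat.not_even_iff_odd.2 hodd) this
      have := hr.two_le
      omega
    have h9 : 9 * f ≤ N := by
      calc 9 * f ≤ 9 ^ f := pow_lin (by norm_num) hf
        _ = (3 ^ f) ^ 2 := by rw [← pow_mul, mul_comm, pow_mul]; norm_num
        _ ≤ (r ^ f) ^ 2 := Nat.pow_le_pow_left (Nat.pow_le_pow_left hr3 f) 2
        _ = u ^ 2 := by rw [hu]
        _ ≤ u ^ n := Nat.pow_le_pow_right (by omega) hn
    rcases hp with hp | ⟨hn3, hp⟩
    · have h := hplus (Or.inl hp)
      obtain ⟨M, hM⟩ : ∃ M, N = M + 1 := ⟨N - 1, by omega⟩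
      rw [hM, Nat.add_sub_cancel] at h
      have hp' : 2 * p = M + 2 := by omega
      have h4 : p ^ 2 ≤ 2 * (M * f) + 1 := by omega
      have h5 : 9 * f ≤ M + 1 := by omega
      nlinarith
    · have h27 : 27 * f ≤ N := by
        calc 27 * f ≤ 27 ^ f := pow_lin (by norm_num) hf
          _ = (3 ^ f) ^ 3 := by rw [← pow_mul, mul_comm, pow_mul]; norm_num
          _ ≤ (r ^ f) ^ 3 := Nat.pow_le_pow_left (Nat.pow_le_pow_left hr3 f) 3
          _ = u ^ 3 := by rw [hu]
          _ ≤ u ^ n := Nat.pow_le_pow_right (by omega) hn3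
      have h := hminus (Or.inl hp)
      obtain ⟨M, hM⟩ : ∃ M, N = M + 1 := ⟨N - 1, by omega⟩
      rw [hM] at h
      have hp' : 2 * p = M := by omega
      have h4 : p ^ 2 ≤ 2 * ((M + 2) * f) + 1 := by
        have : M + 1 + 1 = M + 2 := rfl
        rw [this] at h
        omega
      have h5 : 27 * f ≤ M + 1 := by omega
      nlinarith
  · have h8' := h8 hn3
    rcases hp with hp | hp
    · have h := hplus (Or.inr hp)
      obtain ⟨M, hM⟩ : ∃ M, N = M + 1 := ⟨N - 1, by omega⟩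
      rw [hM, Nat.add_sub_cancel] at h
      have hp' : p = M + 2 := by omega
      have h4 : p ^ 2 ≤ 2 * (M * f) + 1 := by omega
      have h5 : 8 * f ≤ M + 1 := by omega
      nlinarith
    · have h := hminus (Or.inr hp)
      obtain ⟨M, hM⟩ : ∃ M, N = M + 1 := ⟨N - 1, by omega⟩
      rw [hM] at h
      have hp' : p = M := by omega
      have h4 : p ^ 2 ≤ 2 * ((M + 2) * f) + 1 := by
        have : M + 1 + 1 = M + 2 := rfl
        rw [this] at h
        omega
      have h5 : 8 * f ≤ M + 1 := by omega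
      nlinarith

/-! ### Elements of `PSp_{2n}(u)` -/

section Sp

open Cfsg.Agent.H376.Coc Matrix

variable {F : Type*} [Field F]

theorem pow_eq_one_of_neg {d t k : ℕ} {M : Matrix.symplecticGroup (Fin d) F} (hM : orderOf M = t) (ht : Odd t)
    (hk : (M ^ k).1 = -1) : M ^ k = 1 := by
  have h4 : ((M ^ k) ^ t).1 = 1 := by
    rw [← pow_mul, mul_comm, pow_mul, ← hM, pow_orderOf_eq_one, one_pow]
    rfl
  have h5 : ((M ^ k) ^ t).1 = (M ^ k).1 ^ t := rfl
  rw [h5, hk, ht.neg_one_pow] at h4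
  apply Subtype.ext
  rw [hk, h4]
  rfl

/-- block elements: a power of `φ (A, B)` which is central is trivial, for `B ∈ Sp_{2b}`, `b ≥ 1`, of odd order -/
theorem central_pow {a b n : ℕ} (hb1 : 1 ≤ b)
    {φ : Matrix.symplecticGroup (Fin a) F × Matrix.symplecticGroup (Fin b) F →* Matrix.symplecticGroup (Fin n) F}
    (h1 : ∀ x, (φ x).1 = -1 → x.1.1 = -1 ∧ x.2.1 = -1) {A : Matrix.symplecticGroup (Fin a) F}
    {B : Matrix.symplecticGroup (Fin b) F} (hB : Odd (orderOf B)) {j : ℕ}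
    (hk : φ (A, B ^ j) ∈ center (Matrix.symplecticGroup (Fin n) F)) : φ (A, B ^ j) = 1 := by
  rcases ClassicalGeometry.SympInvolutions.center_eq hk with h2 | h2
  · exact Subtype.ext h2
  · obtain ⟨-, h4⟩ := h1 _ h2
    have h4' : (B ^ j).1 = -1 := h4
    have h5 := pow_eq_one_of_neg rfl hB h4'
    have h6 : (B ^ j).1 = 1 := by rw [h5]; rfl
    rw [h4'] at h6
    apply Subtype.ext
    have h9 : (1 : F) = -1 := by
      have := congrFun (congrFun h6 (Sum.inl ⟨0, by omega⟩)) (Sum.inl ⟨0, by omega⟩)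
      rw [Matrix.neg_apply, Matrix.one_apply_eq] at this
      exact this.symm
    rw [h2]
    have h10 : (-1 : Matrix (Fin n ⊕ Fin n) (Fin n ⊕ Fin n) F) = (-1 : F) • 1 := by
      rw [neg_smul, one_smul]
    rw [h10, ← h9, one_smul]
    rfl

theorem exists_lcm {a b n : ℕ} (hb1 : 1 ≤ b) (h : a + b ≤ n) (A : Matrix.symplecticGroup (Fin a) F)
    (B : Matrix.symplecticGroup (Fin b) F) (hB : Odd (orderOf B)) :
    ∃ g : Cfsg.PSp n F, orderOf g = Nat.lcm (orderOf A) (orderOf B) := by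
  obtain ⟨φ, hφ, h1⟩ := exists_sphi (F := F) h
  refine ⟨QuotientGroup.mk (φ (A, B)), ?_⟩
  rw [orderOf_mk_of, orderOf_injective _ hφ, Prod.orderOf_mk]
  intro k hk
  rw [← map_pow, Prod.pow_mk] at hk ⊢
  exact central_pow hb1 h1 hB hk

theorem exists_three [Finite F] {b : ℕ} (hb : 1 ≤ b) : ∃ B : Matrix.symplecticGroup (Fin b) F, orderOf B = 3 := by
  let := Fintype.ofFinite F
  have hf : Fact (Nat.Prime 3) := ⟨Nat.prime_three⟩
  have : Finite (Matrix.symplecticGroup (Fin b) F) :=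
    Finite.of_injective (fun A => (A : Matrix (Fin b ⊕ Fin b) (Fin b ⊕ Fin b) F)) Subtype.val_injective
  apply exists_prime_orderOf_dvd_card' 3
  apply sp_dvd hb
  rcases Nat.lt_or_ge 0 (Fintype.card F % 3) with h | h
  · right
    refine ⟨1, le_rfl, hb, ?_⟩
    have h1 : Fintype.card F % 3 = 1 ∨ Fintype.card F % 3 = 2 := by omega
    have h2 : 1 ≤ Fintype.card F ^ 2 := Nat.one_le_pow _ _ Fintype.card_pos
    rw [mul_one]
    apply (Nat.modEq_iff_dvd' h2).1
    unfold Nat.ModEq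
    rw [Nat.pow_mod]
    rcases h1 with h1 | h1 <;> rw [h1]
  · left
    exact Nat.dvd_of_mod_eq_zero (by omega)

theorem exists_four_odd (h2 : (2 : F) ≠ 0) {a : ℕ} (ha : 1 ≤ a) :
    ∃ A : Matrix.symplecticGroup (Fin a) F, orderOf A = 4 := by
  refine ⟨SymplecticGroup.symJ (Fin a) F, ?_⟩
  have hf2 : Fact (Nat.Prime 2) := ⟨Nat.prime_two⟩
  have h4 : 4 = 2 ^ (1 + 1) := by norm_num
  have hsq : ((SymplecticGroup.symJ (Fin a) F) ^ 2).1 = -1 := by
    rw [pow_two]
    exact J_squared (Fin a) F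
  rw [h4]
  apply orderOf_eq_prime_pow
  · rw [pow_one]
    intro h
    rw [h] at hsq
    have h6 := congrFun (congrFun hsq (Sum.inl ⟨0, by omega⟩)) (Sum.inl ⟨0, by omega⟩)
    change (1 : Matrix (Fin a ⊕ Fin a) (Fin a ⊕ Fin a) F) _ _ = _ at h6
    rw [Matrix.neg_apply, Matrix.one_apply_eq] at h6
    apply h2
    linear_combination h6
  · rw [show 2 ^ (1 + 1) = 2 * 2 by norm_num, pow_mul]
    apply Subtype.ext
    change ((SymplecticGroup.symJ (Fin a) F) ^ 2).1 ^ 2 = 1
    rw [hsq]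
    exact neg_one_sq

theorem exists_four_even (h2 : (2 : F) = 0) : ∃ A : Matrix.symplecticGroup (Fin 2) F, orderOf A = 4 := by
  have hc : CharP F 2 := by
    have := CharP.exists F
    obtain ⟨q, hq⟩ := this
    have h3 : q ∣ 2 := (CharP.cast_eq_zero_iff F q 2).1 (by exact_mod_cast h2)
    rcases (Nat.dvd_prime Nat.prime_two).1 h3 with h4 | h4
    · subst h4
      exact absurd rfl (CharP.char_ne_one F 1)
    · subst h4; exact hq
  obtain ⟨x, hx⟩ := Cfsg.Agent.H374.SpFour.exists_four (F := F) hc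
  obtain ⟨A, rfl⟩ := QuotientGroup.mk'_surjective _ x
  refine ⟨A, ?_⟩
  rw [← hx]
  symm
  apply orderOf_mk_of
  intro k hk
  rcases ClassicalGeometry.SympInvolutions.center_eq hk with h3 | h3
  · exact Subtype.ext h3
  · apply Subtype.ext
    rw [h3]
    have h10 : (-1 : Matrix (Fin 2 ⊕ Fin 2) (Fin 2 ⊕ Fin 2) F) = (-1 : F) • 1 := by
      rw [neg_smul, one_smul]
    have h11 : (-1 : F) = 1 := by linear_combination -h2
    rw [h10, h11, one_smul]
    rfl

theorem psp_twelve [Finite F] {n : ℕ} (hn : 2 ≤ n) (h : (2 : F) ≠ 0 ∨ 3 ≤ n) : ∃ g : Cfsg.PSp n F, 12 ∣ orderOf g := by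
  obtain ⟨B, hB⟩ := exists_three (F := F) (b := 1) le_rfl
  by_cases h2 : (2 : F) = 0
  · obtain ⟨A, hA⟩ := exists_four_even h2
    obtain ⟨g, hg⟩ := exists_lcm (n := n) le_rfl (by rcases h with h | h; exact absurd h2 h; omega) A B
      (by rw [hB]; decide)
    rw [hA, hB] at hg
    exact ⟨g, by rw [hg]; decide⟩
  · obtain ⟨A, hA⟩ := exists_four_odd (F := F) h2 (a := 1) le_rfl
    obtain ⟨g, hg⟩ := exists_lcm (n := n) le_rfl (by omega) A B (by rw [hB]; decide)
    rw [hA, hB] at hg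
    exact ⟨g, by rw [hg]; decide⟩

theorem psp_sylow [Finite F] {n : ℕ} (hn : 2 ≤ n) [Finite (Cfsg.PSp n F)] :
    ∃ P : Sylow 3 (Cfsg.PSp n F), ¬ IsCyclic P := by
  have hf : Fact (Nat.Prime 3) := ⟨Nat.prime_three⟩
  obtain ⟨B, hB⟩ := exists_three (F := F) (b := 1) le_rfl
  obtain ⟨φ, hφ, h1⟩ := exists_sphi (F := F) (show 1 + 1 ≤ n by omega)
  refine exists_sylow ((QuotientGroup.mk' (center (Matrix.symplecticGroup (Fin n) F))).comp φ) hB hB ?_
  intro i j hij
  have h2 : φ (B ^ i, B ^ j) ∈ center (Matrix.symplecticGroup (Fin n) F) := by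
    rw [MonoidHom.comp_apply, QuotientGroup.mk'_apply, QuotientGroup.eq_one_iff] at hij
    exact hij
  have h3 := central_pow le_rfl h1 (A := B ^ i) (B := B) (by rw [hB]; decide) h2
  have h4 : (B ^ i, B ^ j) = 1 := hφ (by rw [h3, map_one])
  exact ⟨congrArg Prod.fst h4, congrArg Prod.snd h4⟩

/-- the isolated prime -/
theorem psp_prime [Fintype F] {n p : ℕ} (hn : 2 ≤ n) (hp : p.Prime) (hp2 : p ≠ 2)
    (hd : p ∣ Nat.card (Cfsg.PSp n F)) (hiso : ∀ g : Cfsg.PSp n F, p ∣ orderOf g → orderOf g = p) :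
    (Odd (Fintype.card F) ∧ (2 * p = Fintype.card F ^ n + 1 ∨ (3 ≤ n ∧ 2 * p = Fintype.card F ^ n - 1))) ∨
      (Even (Fintype.card F) ∧ (p = Fintype.card F ^ n + 1 ∨ (3 ≤ n ∧ p = Fintype.card F ^ n - 1))) := by
  have hadj : ¬ Cfsg.Agent.H94.PG.Adj (Cfsg.PSp n F) p 2 := by
    rintro ⟨-, -, -, x, y, hx, hy, hc⟩
    have h1 : orderOf (x * y) = p * 2 := by
      rw [hc.orderOf_mul_eq_mul_orderOf_of_coprime, hx, hy]
      rw [hx, hy]
      exact (Nat.coprime_primes hp Nat.prime_two).2 hp2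
    have h2 := hiso (x * y) (by rw [h1]; exact Dvd.intro _ rfl)
    rw [h1] at h2
    have := hp.pos
    omega
  obtain ⟨hd1, hd2⟩ := Cfsg.Agent.H377.psp_info hn hp hp2 hd hadj
  rw [Nat.card_eq_fintype_card] at hd1
  have hu2 : 2 ≤ Fintype.card F := Fintype.one_lt_card
  set u := Fintype.card F with hu
  have hN4 : 4 ≤ u ^ n := by
    calc 4 = 2 ^ 2 := rfl
      _ ≤ u ^ 2 := Nat.pow_le_pow_left hu2 2
      _ ≤ u ^ n := Nat.pow_le_pow_right (by omega) hn
  have hpodd : Odd p := hp.odd_of_ne_two hp2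
  -- dimension 4
  have hn3 : p ∣ u ^ n - 1 → 3 ≤ n := by
    intro h
    by_contra hlt
    have h2 : n = 2 := by omega
    subst h2
    apply hd2 1 le_rfl (by norm_num)
    rw [Nat.card_eq_fintype_card, ← hu, mul_one]
    exact h
  rcases Nat.even_or_odd u with hev | hodd
  · right
    refine ⟨hev, ?_⟩
    have hNev : Even (u ^ n) := hev.pow_of_ne_zero (by omega)
    rcases hd1 with h | h
    · right
      refine ⟨hn3 h, ?_⟩
      obtain ⟨g, hg⟩ := Cfsg.Agent.H377.exists_psp_tor_plus (F := F) (m := n) (by omega) (N := u ^ n - 1) (by omega)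
        (Or.inl ⟨by
          obtain ⟨k, hk⟩ := hNev
          exact ⟨k - 1, by omega⟩, by rw [Nat.card_eq_fintype_card]⟩)
      rw [← hg]
      exact (hiso g (by rw [hg]; exact h)).symm
    · left
      obtain ⟨g, hg⟩ := Cfsg.Agent.H377.exists_psp_tor_minus (F := F) (m := n) (by omega) (N := u ^ n + 1) (by omega)
        (Or.inl ⟨hNev.add_one, by rw [Nat.card_eq_fintype_card]⟩)
      rw [← hg]
      exact (hiso g (by rw [hg]; exact h)).symm
  · left
    refine ⟨hodd, ?_⟩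
    obtain ⟨k, hk⟩ := hodd.pow (n := n)
    have hk1 : u ^ n - 1 = 2 * k := by omega
    have hk2 : u ^ n + 1 = 2 * (k + 1) := by omega
    rcases hd1 with h | h
    · right
      refine ⟨hn3 h, ?_⟩
      rw [hk1] at h ⊢
      obtain ⟨g, hg⟩ := Cfsg.Agent.H377.exists_psp_tor_plus (F := F) (m := n) (by omega) (N := k) (by omega)
        (Or.inr (by rw [Nat.card_eq_fintype_card, ← hu, hk1]))
      rw [(hiso g (by rw [hg]; exact (Nat.Coprime.dvd_mul_left (Nat.coprime_two_right.2 hpodd)).1 h)).symm, hg]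
    · left
      rw [hk2] at h ⊢
      obtain ⟨g, hg⟩ := Cfsg.Agent.H377.exists_psp_tor_minus (F := F) (m := n) (by omega) (N := k + 1) (by omega)
        (Or.inr (by rw [Nat.card_eq_fintype_card, ← hu, hk2]))
      rw [(hiso g (by rw [hg]; exact (Nat.Coprime.dvd_mul_left (Nat.coprime_two_right.2 hpodd)).1 h)).symm, hg]

end Sp

/-- `|Aut PSp_{2n}(u)|` -/
theorem card_mulAut_psp {F : Type} [Field F] [Fintype F] {r f n : ℕ} (hr : r.Prime) (hf : 1 ≤ f)
    (hF : Fintype.card F = r ^ f) (hn : 2 ≤ n) (h22 : n = 2 → 3 ≤ Fintype.card F) :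
    Nat.card (MulAut (Cfsg.PSp n F)) = (if n = 2 ∧ r = 2 then 2 else 1) *
      (f * (Fintype.card F ^ (n ^ 2) * ∏ i ∈ Finset.range n, (Fintype.card F ^ (2 * (i + 1)) - 1))) := by
  have := Fact.mk hr
  rw [S0814.result r f hf hF n hn (fun h => hF ▸ h22 h)]
  have h1 := S0245.result (F := F) rfl n
  have h2 := S0246.result (F := F) rfl n (by omega)
  have h3 := Subgroup.card_eq_card_quotient_mul_card_subgroup
    (Subgroup.center (Matrix.symplecticGroup (Fin n) F))
  rw [h1, h2] at h3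
  rw [h3, ← hF]
  change _ = _ * (f * (Nat.card (Cfsg.PSp n F) * _))
  ring

/-- **Row `PSp_{2n}(u)`** -/
theorem row_psp {S : Type*} [Group S] [Finite S] [IsSimpleGroup S] (hna : ¬ IsMulCommutative S) {p m : ℕ}
    {X : Subgroup (MulAut S)} (H : Sit S p m X) {F : Type} [Field F] [Fintype F] {n : ℕ} (hn : 2 ≤ n)
    (h22 : n = 2 → 3 ≤ Fintype.card F) (e : S ≃* Cfsg.PSp n F) : False := by
  have hfin : Finite (Cfsg.PSp n F) := Finite.of_equiv S e.toEquiv
  have hsim : IsSimpleGroup (Cfsg.PSp n F) := e.symm.isSimpleGroup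
  have hna' : ¬ IsMulCommutative (Cfsg.PSp n F) := by
    intro h
    apply hna
    refine ⟨⟨fun a b => e.injective ?_⟩⟩
    rw [map_mul, map_mul]
    exact h.1.1 _ _
  have H' := H.congr e
  set X' := X.map (MulAut.congr e).toMonoidHom with hX'
  clear_value X'
  clear hX'
  obtain ⟨r, hrC⟩ := CharP.exists F
  have hr : r.Prime := CharP.char_is_prime F r
  obtain ⟨⟨f, hf⟩, -, hF⟩ := FiniteField.card F r
  change Fintype.card F = r ^ f at hF
  have hpr := psp_prime (F := F) hn H'.hp H'.hp2 H'.dvd (fun g hg => H'.iso hna' hg)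
  have hcard := card_mulAut_psp (F := F) hr hf hF hn h22
  by_cases hcase : n = 2 ∧ r = 2
  · -- `Sp_4(2^f)`
    obtain ⟨rfl, rfl⟩ := hcase
    have hev : Even (Fintype.card F) := by rw [hF]; exact even_two.pow_of_ne_zero (by omega)
    have hp : p = Fintype.card F ^ 2 + 1 := by
      rcases hpr with ⟨h, -⟩ | ⟨-, h | ⟨h, -⟩⟩
      · exact absurd hev (Nat.not_even_iff_odd.2 h)
      · exact h
      · omega
    obtain ⟨x, hx, hxle⟩ := H'.kill'
    -- the index of the inner automorphisms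
    have hidx : (MulAut.conj : Cfsg.PSp 2 F →* MulAut (Cfsg.PSp 2 F)).range.index = 2 * f := by
      have h1 := Subgroup.index_mul_card (MulAut.conj : Cfsg.PSp 2 F →* MulAut (Cfsg.PSp 2 F)).range
      have h2 : Nat.card (MulAut.conj : Cfsg.PSp 2 F →* MulAut (Cfsg.PSp 2 F)).range = Nat.card (Cfsg.PSp 2 F) :=
        Nat.card_congr (MonoidHom.ofInjective (Sit.conj_inj hna')).symm.toEquiv
      have := Fact.mk hr
      rw [h2, S0814.result 2 f hf hF 2 le_rfl (fun h => hF ▸ h22 h)] at h1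
      have h3 : Nat.gcd 2 (2 ^ f - 1) = 1 := by
        rw [← Nat.coprime_iff_gcd_eq_one, Nat.coprime_two_left]
        have h4 : Even (2 ^ f) := even_two.pow_of_ne_zero (by omega)
        obtain ⟨k, hk⟩ := h4
        have h5 : 1 ≤ 2 ^ f := Nat.one_le_two_pow
        exact ⟨k - 1, by omega⟩
      rw [h3, if_pos ⟨rfl, rfl⟩, mul_one] at h1
      exact Nat.eq_of_mul_eq_mul_right Nat.card_pos h1
    have hnorm : (MulAut.conj : Cfsg.PSp 2 F →* MulAut (Cfsg.PSp 2 F)).range.Normal := by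
      refine ⟨?_⟩
      rintro _ ⟨g, rfl⟩ a
      refine ⟨a g, ?_⟩
      apply MulEquiv.ext
      intro y
      change MulAut.conj (a g) y = a (MulAut.conj g (a⁻¹ y))
      rw [MulAut.conj_apply, MulAut.conj_apply, map_mul, map_mul, map_inv]
      congr 2
      exact (MulAut.apply_inv_self _ a y).symm
    obtain ⟨g, hg⟩ := Subgroup.pow_index_mem (MulAut.conj : Cfsg.PSp 2 F →* MulAut (Cfsg.PSp 2 F)).range x
    have hgo : orderOf g ≤ Fintype.card F ^ 2 + 1 := by
      have h3 : 3 ≤ Fintype.card F := h22 rfl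
      have h4 : 4 ≤ Fintype.card F := by
        obtain ⟨k, hk⟩ := hev
        omega
      have hom := Cfsg.Agent.H374.SpFour.upper (F := F) (p := 2) (n := f) (by omega) hF g
      have h6 : 2 * (2 ^ f + 1) ≤ Fintype.card F ^ 2 + 1 := by
        rw [← hF]
        nlinarith
      rw [← hF] at hom h6
      rcases hom with h | h | h | h | ⟨h, -⟩ | ⟨-, h⟩
      · exact (Nat.le_of_dvd (by omega) h).trans (by omega)
      · exact (Nat.le_of_dvd (by omega) h).trans h6
      · have h7 : 0 < (Fintype.card F ^ 2 - 1) / Nat.gcd 2 (Fintype.card F - 1) := by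
          apply Nat.div_pos
          · have h8 := Nat.gcd_le_left (m := 2) (Fintype.card F - 1) (by norm_num)
            nlinarith [Nat.sub_add_cancel (show 1 ≤ Fintype.card F ^ 2 by nlinarith)]
          · exact Nat.gcd_pos_of_pos_left _ (by norm_num)
        exact (Nat.le_of_dvd h7 h).trans ((Nat.div_le_self _ _).trans (by omega))
      · have h7 : 0 < (Fintype.card F ^ 2 + 1) / Nat.gcd 2 (Fintype.card F - 1) := by
          apply Nat.div_pos
          · have h8 := Nat.gcd_le_left (m := 2) (Fintype.card F - 1) (by norm_num)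
            nlinarith
          · exact Nat.gcd_pos_of_pos_left _ (by norm_num)
        exact (Nat.le_of_dvd h7 h).trans (Nat.div_le_self _ _)
      · omega
      · exact (Nat.le_of_dvd (by norm_num) h).trans (by nlinarith)
    have hxo : orderOf x ≤ 2 * f * orderOf g := by
      apply Nat.le_of_dvd (Nat.mul_pos (by omega) (orderOf_pos g))
      apply orderOf_dvd_of_pow_eq_one
      rw [pow_mul, ← hidx, ← hg, ← map_pow, pow_orderOf_eq_one, map_one]
    have h9 : 4 * f ≤ Fintype.card F ^ 2 := by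
      calc 4 * f ≤ 4 ^ f := pow_lin (by norm_num) hf
        _ = (2 ^ f) ^ 2 := by rw [← pow_mul, mul_comm, pow_mul]; norm_num
        _ = Fintype.card F ^ 2 := by rw [hF]
    have h10 : orderOf x ≤ 2 * f * p := by
      rw [hp]
      exact hxo.trans (Nat.mul_le_mul_left _ hgo)
    have h11 : p ^ 2 ≤ 4 * f * p + 1 := by
      have : 2 * (2 * f * p) = 4 * f * p := by ring
      omega
    have h12 : 4 * f + 1 ≤ p := by omega
    have h13 : 2 ≤ p := H'.hp.two_le
    nlinarith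
  · rw [if_neg hcase, one_mul] at hcard
    have h2 : (2 : F) ≠ 0 ∨ 3 ≤ n := by
      by_cases hn2 : n = 2
      · left
        intro h0
        have h3 : r ∣ 2 := (CharP.cast_eq_zero_iff F r 2).1 (by exact_mod_cast h0)
        exact hcase ⟨hn2, (Nat.prime_dvd_prime_iff_eq hr Nat.prime_two).1 h3⟩
      · right; omega
    refine finish hna' H' (psp_twelve hn h2) (psp_sylow hn) hr hf hF hn (dvd_of_eq hcard) ?_ ?_
    · intro s hs hs3 hsd
      have h1 : s ∣ Nat.card (Matrix.symplecticGroup (Fin (n - 1)) F) := by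
        apply Cfsg.Agent.H376.Coc.sp_dvd (by omega)
        rcases hsd with h | ⟨i, h4, h5, h6⟩
        · exact Or.inl h
        · exact Or.inr ⟨i, h4, by omega, h6⟩
      obtain ⟨B, hB⟩ := exists_three (F := F) (b := 1) le_rfl
      obtain ⟨g, hg⟩ := Cfsg.Agent.H376.Coc.psp_adj (F := F) (n := n) (a := n - 1) (b := 1) (by omega) hs
        Nat.prime_three hs3 h1 (by
          have : Finite (Matrix.symplecticGroup (Fin 1) F) :=
            Finite.of_injective (fun A => (A : Matrix (Fin 1 ⊕ Fin 1) (Fin 1 ⊕ Fin 1) F)) Subtype.val_injective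
          rw [← hB]; exact orderOf_dvd_natCard B)
      exact ⟨g, dvd_of_eq hg.symm⟩
    · rcases hpr with ⟨h, h1⟩ | ⟨h, h1⟩
      · exact Or.inl ⟨h, h1⟩
      · right
        have hr2 : r = 2 := by
          by_contra hr2
          have h3 : Odd (Fintype.card F) := by rw [hF]; exact (hr.odd_of_ne_two hr2).pow
          exact (Nat.not_even_iff_odd.2 h3) h
        refine ⟨?_, ?_⟩
        · by_contra hlt
          exact hcase ⟨by omega, hr2⟩
        · rcases h1 with h1 | ⟨-, h1⟩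
          · exact Or.inl h1
          · exact Or.inr h1

end Cfsg.Agent.H421.PglSp
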