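import Mathlib
import Cfsg.Agent.S1475
import Cfsg.Agent.OddOrderLocal.HallPi
import Cfsg.Agent.SignalizersComponents.CoprimeBasic

/-!
# Cocliques of the prime graph and solvable sections

* `solvable_no_three`: a finite solvable group has no three pairwise nonadjacent vertices in its prime graph.
* `exists_solvable_supplement`: a normal subgroup with solvable quotient has a solvable supplement inside every
  supplement.
* `exists_solvable_cover`: if `K ≤ M` are normal in `G` with `K` and `G ⧸ M` solvable, then for every prime `t` there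
  is a solvable subgroup whose order is divisible by all the primes dividing `|K| |G : M|` and by `t` (if `t`
  divides the order of `G`).
* `coclique_sections`: three pairwise nonadjacent primes: at most one of them divides `|K| |G : M|`.
-/

set_option autoImplicit false
set_option linter.style.haveILetI false

namespace Cfsg.Agent.H421.Coclique

/-- If the primes dividing the order are pairwise nonadjacent then all elements have prime power order. -/
theorem primePow_of_nonadj {G : Type*} [Group G] [Finite G]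
    (h : ∀ p q : ℕ, p.Prime → q.Prime → p ≠ q → p ∣ Nat.card G → q ∣ Nat.card G → ¬ ∃ x : G, orderOf x = p * q)
    (g : G) : IsPrimePow (orderOf g) ∨ g = 1 := by
  by_cases hg : g = 1
  · exact Or.inr hg
  left
  have h1 : orderOf g ≠ 1 := by rwa [Ne, orderOf_eq_one_iff]
  have h0 : orderOf g ≠ 0 := (orderOf_pos g).ne'
  obtain ⟨p, hp, hpg⟩ := Nat.exists_prime_and_dvd h1
  refine (isPrimePow_iff_unique_prime_dvd).mpr ⟨p, ⟨hp, hpg⟩, ?_⟩
  rintro q ⟨hq, hqg⟩
  by_contra hne
  have hcop : Nat.Coprime p q := (Nat.coprime_primes hp hq).mpr (Ne.symm hne)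
  have hd : p * q ∣ orderOf g := hcop.mul_dvd_of_dvd_of_dvd hpg hqg
  refine h p q hp hq (Ne.symm hne) (hpg.trans (orderOf_dvd_natCard g)) (hqg.trans (orderOf_dvd_natCard g))
    ⟨g ^ (orderOf g / (p * q)), ?_⟩
  rw [orderOf_pow_of_dvd]
  · exact Nat.div_div_self hd h0
  · exact (Nat.div_pos (Nat.le_of_dvd (Nat.pos_of_ne_zero h0) hd) (Nat.mul_pos hp.pos hq.pos)).ne'
  · exact Nat.div_dvd_of_dvd hd

/-- A finite solvable group has no three pairwise nonadjacent vertices in its prime graph. -/
theorem solvable_no_three {G : Type*} [Group G] [Finite G] (hsol : Group.IsSolvable G) {r s t : ℕ} (hr : r.Prime)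
    (hs : s.Prime) (ht : t.Prime) (hrs : r ≠ s) (hrt : r ≠ t) (hst : s ≠ t) (hrG : r ∣ Nat.card G)
    (hsG : s ∣ Nat.card G) (htG : t ∣ Nat.card G) (h1 : ¬ ∃ x : G, orderOf x = r * s)
    (h2 : ¬ ∃ x : G, orderOf x = r * t) (h3 : ¬ ∃ x : G, orderOf x = s * t) : False := by
  classical
  obtain ⟨H, hH1, hH2, -⟩ := Cfsg.Agent.OddOrderLocal.HallPi.exists_hall_ge_top (G := G) ({r, s, t} : Set ℕ)
    (X := ⊥) (by
      intro p hp hd
      rw [Subgroup.card_bot] at hd
      exact absurd (Nat.dvd_one.mp hd) hp.one_lt.ne')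
  have key : ∀ p : ℕ, p.Prime → p ∈ ({r, s, t} : Set ℕ) → p ∣ Nat.card G → p ∣ Nat.card H := by
    intro p hp hpi hpG
    rw [← H.card_mul_index] at hpG
    exact (hp.dvd_mul.mp hpG).resolve_right (hH2 p hp hpi)
  have hall : ∀ g : H, IsPrimePow (orderOf g) ∨ g = 1 := by
    refine primePow_of_nonadj ?_
    rintro p q hp hq hpq hpH hqH ⟨x, hx⟩
    have hp' := hH1 p hp hpH
    have hq' := hH1 q hq hqH
    have hx' : orderOf (x : G) = p * q := by rw [Subgroup.orderOf_coe, hx]
    simp only [Set.mem_insert_iff, Set.mem_singleton_iff] at hp' hq'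
    rcases hp' with rfl | rfl | rfl <;> rcases hq' with rfl | rfl | rfl
    · exact hpq rfl
    · exact h1 ⟨x, hx'⟩
    · exact h2 ⟨x, hx'⟩
    · exact h1 ⟨x, by rw [hx', mul_comm]⟩
    · exact hpq rfl
    · exact h3 ⟨x, hx'⟩
    · exact h2 ⟨x, by rw [hx', mul_comm]⟩
    · exact h3 ⟨x, by rw [hx', mul_comm]⟩
    · exact hpq rfl
  haveI : Group.IsSolvable H := inferInstance
  have hcard := Cfsg.Agent.S1475.result hall
  have hsub : ({r, s, t} : Finset ℕ) ⊆ (Nat.card H).primeFactors := by
    intro p hp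
    have hp' : p = r ∨ p = s ∨ p = t := by simpa using hp
    have hpp : p.Prime ∧ p ∣ Nat.card G := by
      rcases hp' with rfl | rfl | rfl
      · exact ⟨hr, hrG⟩
      · exact ⟨hs, hsG⟩
      · exact ⟨ht, htG⟩
    exact Nat.mem_primeFactors.mpr ⟨hpp.1, key p hpp.1 (by simpa using hp') hpp.2, Nat.card_pos.ne'⟩
  have h3' : ({r, s, t} : Finset ℕ).card = 3 := Finset.card_eq_three.mpr ⟨r, s, t, hrs, hrt, hst, rfl⟩
  have := Finset.card_le_card hsub
  omega

/-- Let `M` be a normal subgroup with solvable quotient and `N` a supplement of `M`. Then `N` contains a solvable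
supplement of `M`. -/
theorem exists_solvable_supplement {G : Type*} [Group G] [Finite G] (M N : Subgroup G) [hM : M.Normal]
    (hsol : Group.IsSolvable (G ⧸ M)) (hN : N ⊔ M = ⊤) :
    ∃ X : Subgroup G, X ≤ N ∧ X ⊔ M = ⊤ ∧ Group.IsSolvable X := by
  classical
  obtain ⟨X, ⟨hXN, hXM⟩, hmin⟩ := Set.Finite.exists_minimal (s := {X : Subgroup G | X ≤ N ∧ X ⊔ M = ⊤})
    (Set.toFinite _) ⟨N, le_rfl, hN⟩
  refine ⟨X, hXN, hXM, ?_⟩
  -- X ∩ M lies in the Frattini subgroup of X
  have hfr : M.subgroupOf X ≤ frattini X := by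
    rw [frattini, Order.radical]
    refine le_iInf₂ fun Y hY => ?_
    by_contra hle
    have hlt : Y < Y ⊔ M.subgroupOf X := left_lt_sup.mpr hle
    have htop : Y ⊔ M.subgroupOf X = ⊤ := hY.2 _ hlt
    have h1 : Y.map X.subtype ⊔ M = ⊤ := by
      rw [eq_top_iff, ← hXM]
      refine sup_le ?_ le_sup_right
      calc X = (⊤ : Subgroup X).map X.subtype := by rw [← MonoidHom.range_eq_map, Subgroup.range_subtype]
        _ = Y.map X.subtype ⊔ (M.subgroupOf X).map X.subtype := by rw [← htop, Subgroup.map_sup]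
        _ ≤ Y.map X.subtype ⊔ M := by
            refine sup_le_sup_left ?_ _
            rw [Subgroup.subgroupOf_map_subtype]
            exact inf_le_left
    have h2 : X ≤ Y.map X.subtype :=
      hmin ⟨(Subgroup.map_subtype_le Y).trans hXN, h1⟩ (Subgroup.map_subtype_le Y)
    apply hY.1
    rw [eq_top_iff]
    rintro ⟨x, hx⟩ -
    obtain ⟨y, hy, hyx⟩ := h2 hx
    have : y = ⟨x, hx⟩ := Subtype.ext hyx
    rwa [← this]
  have hnil : Group.IsNilpotent (frattini X) := frattini_nilpotent
  have hf : Group.IsSolvable (frattini X) := inferInstance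
  have h1 : Group.IsSolvable (M.subgroupOf X) :=
    Group.isSolvable_of_isSolvable_injective (Subgroup.inclusion_injective hfr)
  have h2 : Group.IsSolvable (X ⧸ M.subgroupOf X) := by
    let f : X →* G ⧸ M := (QuotientGroup.mk' M).comp X.subtype
    have hk : f.ker = M.subgroupOf X := by
      ext x
      simp [f, MonoidHom.mem_ker, Subgroup.mem_subgroupOf]
    exact Group.isSolvable_of_isSolvable_injective (f := QuotientGroup.lift (M.subgroupOf X) f (by rw [hk]))
      (by
        rw [← MonoidHom.ker_eq_bot_iff]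
        rw [eq_bot_iff]
        intro y hy
        obtain ⟨x, rfl⟩ := QuotientGroup.mk_surjective y
        rw [MonoidHom.mem_ker, QuotientGroup.lift_mk] at hy
        rw [Subgroup.mem_bot, QuotientGroup.eq_one_iff, ← hk]
        exact hy)
  exact Group.isSolvable_of_ker_le_range (M.subgroupOf X).subtype (QuotientGroup.mk' (M.subgroupOf X)) (by simp)

/-- If `K ≤ M` are normal in `G`, with `K` and `G ⧸ M` solvable, then for every prime `t` dividing the order of `G`
there is a solvable subgroup whose order is divisible by `t`, by `|K|` and by `|G : M|`. -/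
theorem exists_solvable_cover {G : Type*} [Group G] [Finite G] (K M : Subgroup G) [K.Normal] [M.Normal]
    (hKM : K ≤ M) (hK : Group.IsSolvable K) (hsol : Group.IsSolvable (G ⧸ M)) {t : ℕ} (ht : t.Prime)
    (htG : t ∣ Nat.card G) :
    ∃ H : Subgroup G, Group.IsSolvable H ∧ Nat.card K ∣ Nat.card H ∧ M.index ∣ Nat.card H ∧ t ∣ Nat.card H := by
  classical
  have : Fact t.Prime := ⟨ht⟩
  let P : Sylow t M := default
  set T : Subgroup G := (P : Subgroup M).map M.subtype with hT
  have hfrat : Subgroup.normalizer (T : Set G) ⊔ M = ⊤ := Sylow.normalizer_sup_eq_top P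
  obtain ⟨X, hXN, hXM, hXs⟩ := exists_solvable_supplement M (Subgroup.normalizer (T : Set G)) hsol hfrat
  have hTp : IsPGroup t T := P.isPGroup'.map _
  have hTs : Group.IsSolvable T := by
    have := hTp.isNilpotent
    infer_instance
  have hKTs : Group.IsSolvable (K ⊔ T : Subgroup G) :=
    Cfsg.Agent.SignalizersComponents.CoprimeBasic.isSolvable_sup (by rw [Subgroup.normalizer_eq_top]; exact le_top)
      hK hTs
  have hXKT : X ≤ Subgroup.normalizer ((K ⊔ T : Subgroup G) : Set G) := by
    intro x hx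
    have h1 := hXN hx
    rw [Subgroup.mem_normalizer_iff_map_conj_eq] at h1 ⊢
    rw [Subgroup.map_sup, h1]
    have h2 : x ∈ Subgroup.normalizer (K : Set G) := by rw [Subgroup.normalizer_eq_top]; trivial
    rw [Subgroup.mem_normalizer_iff_map_conj_eq] at h2
    rw [h2]
  refine ⟨(K ⊔ T) ⊔ X, Cfsg.Agent.SignalizersComponents.CoprimeBasic.isSolvable_sup hXKT hKTs hXs,
    Subgroup.card_dvd_of_le (le_sup_left.trans le_sup_left), ?_, ?_⟩
  · have h1 : M.relIndex X = M.index := by
      rw [← Subgroup.relIndex_sup_right, hXM, Subgroup.relIndex_top_right]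
    rw [← h1]
    exact (Subgroup.relIndex_dvd_card M X).trans (Subgroup.card_dvd_of_le le_sup_right)
  · have h1 : M.relIndex X = M.index := by
      rw [← Subgroup.relIndex_sup_right, hXM, Subgroup.relIndex_top_right]
    rw [← M.card_mul_index] at htG
    rcases ht.dvd_mul.mp htG with h | h
    · have h2 : t ∣ Nat.card T := by
        rw [hT, Subgroup.card_map_of_injective M.subtype_injective]
        exact P.dvd_card_of_dvd_card h
      exact h2.trans (Subgroup.card_dvd_of_le (le_sup_right.trans le_sup_left))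
    · rw [← h1] at h
      exact h.trans ((Subgroup.relIndex_dvd_card M X).trans (Subgroup.card_dvd_of_le le_sup_right))

/-- **Three pairwise nonadjacent primes**: if `K ≤ M` are normal in `G`, with `K` and `G ⧸ M` solvable, then at most
one prime of a set of at least three pairwise nonadjacent primes divides `|K| |G : M|`. -/
theorem coclique_sections {G : Type*} [Group G] [Finite G] (K M : Subgroup G) [K.Normal] [M.Normal]
    (hKM : K ≤ M) (hK : Group.IsSolvable K) (hsol : Group.IsSolvable (G ⧸ M)) (ρ : Finset ℕ) (hρ : 3 ≤ ρ.card)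
    (h1 : ∀ r ∈ ρ, r.Prime ∧ r ∣ Nat.card G)
    (h2 : ∀ r ∈ ρ, ∀ s ∈ ρ, r ≠ s → ¬ ∃ x : G, orderOf x = r * s) {r s : ℕ} (hr : r ∈ ρ) (hs : s ∈ ρ)
    (hrd : r ∣ Nat.card K * M.index) (hsd : s ∣ Nat.card K * M.index) : r = s := by
  classical
  by_contra hrs
  obtain ⟨t, htρ, htr, hts⟩ : ∃ t ∈ ρ, t ≠ r ∧ t ≠ s := by
    by_contra hcon
    push Not at hcon
    have : ρ ⊆ {r, s} := by
      intro t ht
      by_cases h : t = r
      · simp [h]
      · simp [hcon t ht h]
    have := Finset.card_le_card this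
    have h3 : ({r, s} : Finset ℕ).card ≤ 2 := Finset.card_le_two
    omega
  obtain ⟨H, hHs, hHK, hHM, hHt⟩ := exists_solvable_cover K M hKM hK hsol (h1 t htρ).1 (h1 t htρ).2
  have hd : ∀ p : ℕ, p.Prime → p ∣ Nat.card K * M.index → p ∣ Nat.card H := by
    intro p hp hpd
    rcases hp.dvd_mul.mp hpd with h | h
    · exact h.trans hHK
    · exact h.trans hHM
  refine solvable_no_three hHs (h1 r hr).1 (h1 s hs).1 (h1 t htρ).1 hrs (Ne.symm htr) (Ne.symm hts)
    (hd r (h1 r hr).1 hrd) (hd s (h1 s hs).1 hsd) hHt ?_ ?_ ?_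
  · rintro ⟨x, hx⟩
    exact h2 r hr s hs hrs ⟨x, by rw [Subgroup.orderOf_coe, hx]⟩
  · rintro ⟨x, hx⟩
    exact h2 r hr t htρ (Ne.symm htr) ⟨x, by rw [Subgroup.orderOf_coe, hx]⟩
  · rintro ⟨x, hx⟩
    exact h2 s hs t htρ (Ne.symm hts) ⟨x, by rw [Subgroup.orderOf_coe, hx]⟩

end Cfsg.Agent.H421.Coclique
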