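import Cfsg.Agent.H376.CocPsl2
import Cfsg.Agent.H403.HermElt
import Cfsg.Agent.H72.AdjPSUW
import Cfsg.Agent.S0281
import Cfsg.Agent.LieClassical.FieldTransfer

/-!
# Large cocliques and elements of order `2^(m+1)` (helper421)

* `psl_odd`, `psu_odd` : `u` odd, a coclique of `2^(m-1) - 1` primes forces an element of order `2^(m+1)` (`m ≥ 5`).
-/

set_option autoImplicit false

namespace Cfsg.Agent.H421.OddCoc

open Matrix Cfsg.Agent.H376.Coc Cfsg.Agent.H376

/-- `2^(j+2)` divides `u^(2^j) - 1` for odd `u` and `j ≥ 1` -/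
theorem two_pow_dvd {u : ℕ} (hu : Odd u) (j : ℕ) : 2 ^ (j + 3) ∣ u ^ (2 ^ (j + 1)) - 1 := by
  induction j with
  | zero =>
    have := Nat.eight_dvd_sq_sub_one_of_odd hu
    simpa using this
  | succ j ih =>
    have h1 : u ^ (2 ^ (j + 1 + 1)) - 1 = (u ^ (2 ^ (j + 1)) - 1) * (u ^ (2 ^ (j + 1)) + 1) := by
      rw [pow_succ 2 (j + 1), pow_mul, sq, mul_comm]
      have := Nat.mul_self_sub_mul_self_eq (u ^ 2 ^ (j + 1)) 1
      rw [one_mul] at this
      rw [this, mul_comm]
    rw [h1, show j + 1 + 3 = (j + 3) + 1 by ring, pow_succ]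
    refine mul_dvd_mul ih ?_
    exact (Odd.pow hu).add_one.two_dvd

theorem two_pow_dvd' {u m : ℕ} (hu : Odd u) (hm : 2 ≤ m) : 2 ^ (m + 1) ∣ u ^ (2 ^ (m - 1)) - 1 := by
  obtain ⟨j, rfl⟩ : ∃ j, m = j + 2 := ⟨m - 2, by omega⟩
  have := two_pow_dvd hu j
  rw [show j + 2 + 1 = j + 3 by ring, show j + 2 - 1 = j + 1 by omega]
  exact this

section psl

variable {F : Type*} [Field F]

/-- elements of `GL_d` give elements of `PSL_l`, `l ≥ d + 2`, of the same order -/
theorem psl_of_gl {d l N : ℕ} (hN : 0 < N) (h : ∃ M : Matrix (Fin d) (Fin d) F, orderOf M = N) (hdl : d + 2 ≤ l) :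
    ∃ g : Matrix.ProjectiveSpecialLinearGroup (Fin l) F, orderOf g = N := by
  obtain ⟨M, hM⟩ := h
  have hMN : M ^ N = 1 := by rw [← hM, pow_orderOf_eq_one]
  have hd0 : M.det ≠ 0 := by
    intro h0
    have h1 : (M ^ N).det = 0 := by rw [det_pow, h0, zero_pow hN.ne']
    rw [hMN, det_one] at h1
    exact one_ne_zero h1
  let A0 : Matrix (Fin d ⊕ Fin 1) (Fin d ⊕ Fin 1) F := fromBlocks M 0 0 ((M.det)⁻¹ • 1)
  have hdet : A0.det = 1 := by
    rw [det_fromBlocks_zero₂₁, det_smul, det_one, Fintype.card_fin, pow_one, mul_one, mul_inv_cancel₀ hd0]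
  let A : Matrix.SpecialLinearGroup (Fin d ⊕ Fin 1) F := ⟨A0, hdet⟩
  have hpow : ∀ k : ℕ, ((A ^ k : Matrix.SpecialLinearGroup (Fin d ⊕ Fin 1) F) :
      Matrix (Fin d ⊕ Fin 1) (Fin d ⊕ Fin 1) F) =
      fromBlocks (M ^ k) 0 0 (((M ^ k).det)⁻¹ • 1) := by
    intro k
    rw [Matrix.SpecialLinearGroup.coe_pow]
    change A0 ^ k = _
    induction k with
    | zero => rw [pow_zero, pow_zero, det_one, inv_one, one_smul, fromBlocks_one]
    | succ k ih =>
      rw [pow_succ, ih, fromBlocks_multiply, pow_succ, det_mul, mul_inv]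
      simp only [Matrix.mul_zero, Matrix.zero_mul, add_zero, zero_add, Matrix.mul_smul, smul_zero,
        Matrix.mul_one, smul_smul, mul_comm]
  have hAord : orderOf A = N := by
    rw [← hM]
    apply orderOf_eq_orderOf_iff.2
    intro k
    constructor
    · intro hk
      have h1 := congrArg Subtype.val hk
      have h2 : fromBlocks (M ^ k) 0 0 (((M ^ k).det)⁻¹ • 1) = (1 : Matrix (Fin d ⊕ Fin 1) (Fin d ⊕ Fin 1) F) :=
        (hpow k).symm.trans h1
      rw [← fromBlocks_one, fromBlocks_inj] at h2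
      exact h2.1
    · intro hk
      apply Subtype.ext
      rw [hpow, hk, det_one, inv_one, one_smul, fromBlocks_one]
      rfl
  obtain ⟨φ, hφ, h1⟩ := exists_phi (F := F) (a := d + 1) (b := 1) (n := l) (by omega)
  let A' := WordEmb.reidx (F := F) finSumFinEquiv A
  have hA' : orderOf A' = N := by
    rw [orderOf_injective _ (WordEmb.reidx_injective _), hAord]
  refine ⟨QuotientGroup.mk (φ (A', 1)), ?_⟩
  rw [orderOf_mk_of, orderOf_injective _ hφ, Prod.orderOf_mk, hA', orderOf_one, Nat.lcm_one_right]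
  intro k hk
  obtain ⟨r, hr⟩ := center_scalar hk
  rw [← map_pow] at hr
  obtain ⟨h2, h3⟩ := h1 _ r hr
  have h3' : (1 : Matrix (Fin 1) (Fin 1) F) = r • 1 := by
    have : (((A', 1) : Matrix.SpecialLinearGroup (Fin (d + 1)) F × Matrix.SpecialLinearGroup (Fin 1) F) ^ k).2 = 1 :=
      one_pow k
    rw [this] at h3
    exact h3
  have hr1 : r = 1 := by
    have h4 := congrFun (congrFun h3' 0) 0
    simpa using h4.symm
  rw [hr1, one_smul] at hr
  rw [← map_pow]
  exact Subtype.ext hr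

variable [Fintype F]

/-- **Large cocliques of `PSL_l(u)`, `u` odd.** -/
theorem psl_odd (hF : Odd (Fintype.card F)) {l m : ℕ} (hm : 5 ≤ m) {C : Finset ℕ}
    (hC : IsCoc (Matrix.ProjectiveSpecialLinearGroup (Fin l) F) C) (h2 : 2 ∉ C) (hc : 2 ^ (m - 1) - 1 ≤ C.card) :
    ∃ g : Matrix.ProjectiveSpecialLinearGroup (Fin l) F, orderOf g = 2 ^ (m + 1) := by
  have h16 : 16 ≤ 2 ^ (m - 1) := by
    calc 16 = 2 ^ 4 := by norm_num
      _ ≤ 2 ^ (m - 1) := Nat.pow_le_pow_right (by norm_num) (by omega)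
  have hl1 : 2 ≤ l := by
    by_contra hl
    have : Subsingleton (Fin l) := Fin.subsingleton_iff_le_one.2 (by omega)
    have h1 : Nat.card (Matrix.ProjectiveSpecialLinearGroup (Fin l) F) = 1 := by
      have : Subsingleton (Matrix.ProjectiveSpecialLinearGroup (Fin l) F) := inferInstance
      exact Nat.card_unique
    obtain ⟨s, hs⟩ : C.Nonempty := Finset.card_pos.1 (by omega)
    have h3 := hC.dvd s hs
    rw [h1] at h3
    exact (hC.prime s hs).one_lt.ne' (Nat.dvd_one.1 h3)
  have hl : 4 ≤ l := by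
    by_contra hl
    have h1 := psl_coclique_three (hC.subset (Finset.erase_subset 3 C)) hl1 (by omega) (by
      intro s hs
      rw [Finset.mem_erase] at hs
      have h3 := (hC.prime s hs.2).two_le
      have h4 : s ≠ 2 := fun h => h2 (h ▸ hs.2)
      have h5 : s ≠ 4 := by
        rintro rfl
        exact absurd (hC.prime 4 hs.2) (by norm_num)
      have := hs.1
      omega)
    have h3 := Finset.pred_card_le_card_erase (s := C) (a := 3)
    omega
  have h1 := psl_coclique_gen hC hl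
  refine psl_of_gl (d := 2 ^ (m - 1)) (pow_pos two_pos _)
    (H403.exists_mat_lin rfl (by omega) (two_pow_dvd' hF (by omega))) (by omega)

end psl

section psu

open Cfsg.Agent.H186 Cfsg.Agent.ClassicalGeometry.GUBasic Cfsg.Agent.H103.UniBlock Cfsg.Agent.H103.PGUUpper
  Cfsg.Agent.H72.AdjPSU Cfsg.Agent.H127

variable {F : Type*} [Field F] [Fintype F] {q : ℕ}

omit [Fintype F] in
theorem submatrix_pow {ι κ : Type*} [Fintype ι] [DecidableEq ι] [Fintype κ] [DecidableEq κ] (e : κ ≃ ι)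
    (A : Matrix ι ι F) (k : ℕ) : (A.submatrix e e) ^ k = (A ^ k).submatrix e e := by
  induction k with
  | zero => rw [pow_zero, pow_zero, Matrix.submatrix_one_equiv]
  | succ k ih => rw [pow_succ, ih, Matrix.submatrix_mul_equiv, pow_succ]

/-- a unitary matrix of order `d` gives a block of determinant one of order `d` in one more dimension -/
theorem hasBlock_succ (hF : Fintype.card F = q ^ 2) {ι : Type*} [Fintype ι] [DecidableEq ι] {a d : ℕ}
    (e : Fin (a + 1) ≃ ι ⊕ Fin 1) {A : Matrix ι ι F} (hA : H103.UniBlock.Uni q A) (h1 : A ^ d = 1)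
    (h2 : ∀ k : ℕ, A ^ k = 1 → d ∣ k) : HasBlock F q (a + 1) d := by
  have hq := two_le hF
  have hdp := det_pow hF hA
  have hd0 : A.det ≠ 0 := by
    intro h0
    rw [h0, zero_pow (by omega)] at hdp
    exact zero_ne_one hdp
  obtain ⟨δ, hδ⟩ : ∃ δ : F, δ = (A.det)⁻¹ := ⟨_, rfl⟩
  have hδq : δ ^ (q + 1) = 1 := by rw [hδ, inv_pow, hdp, inv_one]
  have hu : H103.UniBlock.Uni q (δ • (1 : Matrix (Fin 1) (Fin 1) F)) := by
    refine ⟨1, isUnit_one, ?_⟩
    rw [st_smul, st_one hF, mul_one, smul_mul_smul_comm, mul_one, ← pow_succ, hδq, one_smul]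
  have hB := uni_fromBlocks (q := q) (by omega) hA hu
  have hpow : ∀ k : ℕ, (fromBlocks A 0 0 (δ • (1 : Matrix (Fin 1) (Fin 1) F))) ^ k =
      fromBlocks (A ^ k) 0 0 ((δ ^ k) • (1 : Matrix (Fin 1) (Fin 1) F)) := by
    intro k
    rw [fromBlocks_pow, smul_pow, one_pow]
  refine ⟨(fromBlocks A 0 0 (δ • (1 : Matrix (Fin 1) (Fin 1) F))).submatrix e e, uni_submatrix e hB, ?_, ?_, ?_⟩
  · rw [Matrix.det_submatrix_equiv_self, Matrix.det_fromBlocks_zero₂₁, det_smul, det_one, Fintype.card_fin, pow_one,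
      mul_one, hδ, mul_inv_cancel₀ hd0]
  · have hδd : δ ^ d = 1 := by rw [hδ, inv_pow, ← Matrix.det_pow, h1, det_one, inv_one]
    rw [submatrix_pow, hpow, h1, hδd, one_smul, fromBlocks_one, Matrix.submatrix_one_equiv]
  · intro k hk
    rw [submatrix_pow, hpow] at hk
    apply h2
    have h3 : fromBlocks (A ^ k) 0 0 ((δ ^ k) • (1 : Matrix (Fin 1) (Fin 1) F)) = 1 := by
      have h4 := congrArg (fun M => M.submatrix e.symm e.symm) hk
      simpa [Matrix.submatrix_submatrix] using h4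
    rw [← fromBlocks_one, fromBlocks_inj] at h3
    exact h3.1

theorem hasBlock_even_succ (hF : Fintype.card F = q ^ 2) {j d : ℕ} (hj : j ≠ 0) (hd : d ∣ q ^ (2 * j) - 1) :
    HasBlock F q (2 * j + 1) d := by
  have hq := two_le hF
  obtain ⟨A, hA⟩ := exists_singer F hj
  have hA' : orderOf A = q ^ (2 * j) - 1 := by rw [hA, hF, ← pow_mul]
  let A' : GL (Fin j) F := A
  have hpos : 0 < q ^ (2 * j) - 1 := by
    have h1 : 1 < q ^ (2 * j) := Nat.one_lt_pow (by omega) (by omega)
    omega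
  obtain ⟨c, hc⟩ := hd
  have hc0 : 0 < c := Nat.pos_of_ne_zero fun h => hpos.ne' (by rw [hc, h, mul_zero])
  have hpow : ∀ k : ℕ, (fromBlocks (A' : Matrix (Fin j) (Fin j) F) 0 0 (st q ((A'⁻¹ : GL (Fin j) F) :
      Matrix (Fin j) (Fin j) F))) ^ k = fromBlocks ((A' ^ k : GL (Fin j) F) : Matrix (Fin j) (Fin j) F) 0 0
        (st q (((A' ^ k)⁻¹ : GL (Fin j) F) : Matrix (Fin j) (Fin j) F)) := by
    intro k
    induction k with
    | zero =>
      rw [pow_zero, pow_zero, inv_one, Units.val_one, st_one hF, fromBlocks_one]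
    | succ k ih =>
      rw [pow_succ, ih, fromBlocks_multiply, pow_succ, _root_.mul_inv_rev, Units.val_mul, Units.val_mul, st_mul hF]
      simp only [Matrix.mul_zero, Matrix.zero_mul, add_zero, zero_add]
  let e : Fin (2 * j + 1) ≃ (Fin j ⊕ Fin j) ⊕ Fin 1 :=
    finSumFinEquiv.symm.trans (Equiv.sumCongr ((finCongr (two_mul j)).trans finSumFinEquiv.symm) (Equiv.refl _))
  refine hasBlock_succ hF e (A := (fromBlocks (A' : Matrix (Fin j) (Fin j) F) 0 0 (st q ((A'⁻¹ : GL (Fin j) F) :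
      Matrix (Fin j) (Fin j) F))) ^ c) (uni_pow hF (uni_hyp hF A') c) ?_ ?_
  · rw [← pow_mul, hpow, mul_comm, ← hc, ← hA', show A' ^ orderOf A = 1 from pow_orderOf_eq_one A, inv_one,
      Units.val_one, st_one hF, fromBlocks_one]
  · intro k hk
    rw [← pow_mul, hpow, ← fromBlocks_one, fromBlocks_inj] at hk
    have h1 : orderOf A ∣ c * k := by
      apply orderOf_dvd_of_pow_eq_one
      exact Units.ext hk.1
    rw [hA', hc, mul_comm d c] at h1
    exact (Nat.mul_dvd_mul_iff_left hc0).1 h1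

/-- a coclique has at most `n / 2 + 1` elements -/
theorem psu_coclique_half (hF : Fintype.card F = q ^ 2) {n : ℕ} (hn : 4 ≤ n) {C : Finset ℕ}
    (hC : IsCoc (Cfsg.PSU n F q) C) : C.card ≤ n / 2 + 1 := by
  classical
  have hρ : ∀ r ∈ C, r.Prime ∧ r ∣ Nat.card (Cfsg.PSU n F q) := fun r hr => ⟨hC.prime r hr, hC.dvd r hr⟩
  by_cases h : ∃ x ∈ C, wU q x ≤ n / 2
  · obtain ⟨x, hx, hxn⟩ := h
    have h1 := (card_coclique hF (by omega) hρ hC.indep hx).2.2 (by omega)
    omega
  · push Not at h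
    have hnq : ∀ s ∈ C, ¬ s ∣ q ∧ n / 2 < nu q s := by
      intro s hs
      have h1 := h s hs
      rw [wU] at h1
      split_ifs at h1 with h2
      · omega
      · rw [not_or] at h2
        exact ⟨h2.1, h1⟩
    have h2 : C.card ≤ (Finset.Ioc (n / 2) n).card := by
      refine Finset.card_le_card_of_injOn (nu q) ?_ ?_
      · intro s hs
        exact Finset.mem_coe.2 (Finset.mem_Ioc.2 ⟨(hnq s hs).2, nu_le hF (by omega) (hC.prime s hs) (hnq s hs).1
          (hC.dvd s hs)⟩)
      · intro r hr s hs hrs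
        by_contra hne
        exact hC.indep r hr s hs hne (adj_of_nu hF (by omega) (hC.prime r hr) (hC.prime s hs) hne (hnq r hr).1 hrs
          (nu_le hF (by omega) (hC.prime r hr) (hnq r hr).1 (hC.dvd r hr)))
    rw [Nat.card_Ioc] at h2
    omega

theorem exists_subfield_card (hF : Fintype.card F = q ^ 2) :
    ∃ (K : Type) (_ : Field K) (_ : Fintype K), Fintype.card K = q := by
  obtain ⟨p, hc⟩ := CharP.exists F
  obtain ⟨m, hp, hm⟩ := FiniteField.card F p
  have hq : q ∣ p ^ (m : ℕ) := by rw [← hm, hF, pow_two]; exact dvd_mul_left q q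
  obtain ⟨k, -, hk⟩ := (Nat.dvd_prime_pow hp).1 hq
  have hk0 : k ≠ 0 := by
    rintro rfl
    rw [hk, pow_zero, one_pow] at hF
    have := Fintype.one_lt_card (α := F)
    omega
  have := Fact.mk hp
  let _ : Fintype (GaloisField p k) := Fintype.ofFinite _
  refine ⟨GaloisField p k, inferInstance, inferInstance, ?_⟩
  rw [← Nat.card_eq_fintype_card, GaloisField.card p k hk0, hk]

/-- **Large cocliques of `PSU_l(q)`, `q` odd.** -/
theorem psu_odd {l m q : ℕ} (hF : Fintype.card F = q ^ 2) (hq : Odd q) (hm : 5 ≤ m)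
    {C : Finset ℕ} (hC : IsCoc (Cfsg.PSU l F q) C) (h2 : 2 ∉ C) (hc : 2 ^ (m - 1) - 1 ≤ C.card) :
    ∃ g : Cfsg.PSU l F q, orderOf g = 2 ^ (m + 1) := by
  have h16 : 16 ≤ 2 ^ (m - 1) := by
    calc 16 = 2 ^ 4 := by norm_num
      _ ≤ 2 ^ (m - 1) := Nat.pow_le_pow_right (by norm_num) (by omega)
  have hl : 4 ≤ l := by
    by_contra hl
    obtain ⟨s, hs⟩ : C.Nonempty := Finset.card_pos.1 (by omega)
    by_cases hl3 : l = 3
    · subst hl3
      have h1 := (card_coclique hF le_rfl (fun r hr => ⟨hC.prime r hr, hC.dvd r hr⟩) hC.indep hs).1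
      omega
    by_cases hl2 : l = 2
    · subst hl2
      obtain ⟨K, _, _, hK⟩ := exists_subfield_card hF
      obtain ⟨e⟩ := Cfsg.Agent.S0281.result (K := K) hF hK
      have e' : Cfsg.PSU 2 F q ≃* Matrix.ProjectiveSpecialLinearGroup (Fin 2) K :=
        Cfsg.Agent.LieClassical.FieldTransfer.centralQuotientCongr e
      have h1 := psl_coclique_three ((hC.subset (Finset.erase_subset 3 C)).congr e') le_rfl (by omega) (by
        intro s hs
        rw [Finset.mem_erase] at hs
        have h3 := (hC.prime s hs.2).two_le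
        have h4 : s ≠ 2 := fun h => h2 (h ▸ hs.2)
        have h5 : s ≠ 4 := by
          rintro rfl
          exact absurd (hC.prime 4 hs.2) (by norm_num)
        have := hs.1
        omega)
      have h3 := Finset.pred_card_le_card_erase (s := C) (a := 3)
      omega
    have : Subsingleton (Fin l) := Fin.subsingleton_iff_le_one.2 (by omega)
    have h1 : Nat.card (Cfsg.PSU l F q) = 1 := by
      have : Subsingleton (Cfsg.PSU l F q) := inferInstanceAs (Subsingleton (_ ⧸ _))
      exact Nat.card_unique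
    have h3 := hC.dvd s hs
    rw [h1] at h3
    exact (hC.prime s hs).one_lt.ne' (Nat.dvd_one.1 h3)
  have h1 := psu_coclique_half hF hl hC
  obtain ⟨j, hj⟩ : ∃ j, 2 ^ (m - 1) = 2 * j := ⟨2 ^ (m - 2), by
    rw [← pow_succ', show m - 2 + 1 = m - 1 by omega]⟩
  have h3 := two_pow_dvd' (m := m) hq (by omega)
  rw [hj] at h3
  exact exists_order_of_block_lt hF (by omega) (hasBlock_even_succ hF (j := j) (by omega) h3) (by omega) _ dvd_rfl

end psu

end Cfsg.Agent.H421.OddCoc
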