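import Cfsg.Agent.H436.KFourEx
import Cfsg.Agent.H436.PslTwo

/-!
# The known simple groups all of whose prime divisors are at most 13 (helper421)

`narrow` : a name `g` in range whose order has no prime divisor greater than 13 is in the explicit finite list `NL`
(61 names, isomorphic groups not identified).
-/

set_option autoImplicit false

namespace Cfsg.Agent.H421.Narrow

open Cfsg Cfsg.Agent.OrdDiv Cfsg.Agent.H436

universe u

/-- all prime divisors are at most 13 -/
def Sm (c : ℕ) : Prop := ∀ p : ℕ, p.Prime → p ∣ c → p ≤ 13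

theorem Sm.dvd {a b : ℕ} (h : Sm b) (hab : a ∣ b) : Sm a := fun p hp hd => h p hp (hd.trans hab)

/-- some primes greater than 13 -/
def bads : List ℕ := [17, 19, 23, 29, 31, 37, 41, 43, 61, 73, 157, 181, 241, 313, 521, 601, 757, 1093, 1201, 191, 3221, 2411]

theorem bads_prime : ∀ p ∈ bads, p.Prime ∧ 13 < p := by
  intro p hp
  simp only [bads, List.mem_cons, List.not_mem_nil, or_false] at hp
  rcases hp with rfl | rfl | rfl | rfl | rfl | rfl | rfl | rfl | rfl | rfl | rfl | rfl | rfl | rfl | rfl | rfl |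
    rfl | rfl | rfl | rfl | rfl | rfl <;> norm_num

/-- some prime greater than 13 of the list divides `n` -/
def hasBad (n : ℕ) : Bool := bads.any fun p => n % p == 0

theorem not_hasBad {n : ℕ} (h : Sm n) : hasBad n = false := by
  rw [Bool.eq_false_iff]
  intro hb
  rw [hasBad, List.any_eq_true] at hb
  obtain ⟨p, hp, hd⟩ := hb
  have h1 := bads_prime p hp
  have h2 := h p h1.1 (Nat.dvd_of_mod_eq_zero (by simpa using hd))
  omega

theorem Prim.le {q e r : ℕ} (h : Prim q e r) (hr : r ≤ 13) : e ≤ 12 := by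
  have h1 : r ∣ q ^ (r - 1) - 1 := by
    have hc : q.Coprime r := by
      rw [Nat.coprime_comm]; exact (Nat.Prime.coprime_iff_not_dvd h.prime).2 h.not_dvd
    have h2 := Nat.ModEq.pow_totient hc
    rw [Nat.totient_prime h.prime] at h2
    exact (Nat.modEq_iff_dvd' (Nat.one_le_pow _ _ (Nat.pos_of_ne_zero fun h0 => h.not_dvd (by rw [h0]; exact dvd_zero r)))).1
      h2.symm
  have h2 := (h.dvd_iff _).1 h1
  have h3 := h.prime.two_le
  have := Nat.le_of_dvd (by omega) h2
  omega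

/-- the prime powers `q` such that no prime greater than 13 divides `q (q² - 1)` -/
def qL : List ℕ := [2, 3, 4, 5, 7, 8, 9, 11, 13, 25, 27, 49, 64]

theorem q_mem {q : ℕ} (hq : IsPrimePow q) (h : Sm (q * (q ^ 2 - 1))) : q ∈ qL := by
  obtain ⟨p, f, hp, hf, rfl⟩ := (isPrimePow_nat_iff q).1 hq
  have hp13 : p ≤ 13 := h p hp ((dvd_pow_self p hf.ne').mul_right _)
  have hf6 : f ≤ 6 := by
    by_contra hlt
    obtain ⟨r, hr⟩ := exists_prim (q := p) (e := 2 * f) hp.two_le (by omega) (by omega)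
    have h1 : r ∣ p ^ f * ((p ^ f) ^ 2 - 1) := hr.dvd_mq dvd_rfl
    have := Prim.le hr (h r hr.prime h1)
    omega
  have hb := not_hasBad h
  clear h hq
  have hp2 := hp.two_le
  have hp' : p = 2 ∨ p = 3 ∨ p = 5 ∨ p = 7 ∨ p = 11 ∨ p = 13 := by
    revert hp
    clear hb
    interval_cases p <;> norm_num
  clear hp hp13 hp2
  rcases hp' with rfl | rfl | rfl | rfl | rfl | rfl <;> interval_cases f <;> revert hb <;> decide

/-- the list -/
def NL : List Grp :=
  [.alt 5, .alt 6, .alt 7, .alt 8, .alt 9, .alt 10, .alt 11, .alt 12, .alt 13, .alt 14, .alt 15, .alt 16,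
    .psl 2 4, .psl 2 5, .psl 2 7, .psl 2 8, .psl 2 9, .psl 2 11, .psl 2 13, .psl 2 25, .psl 2 27, .psl 2 49,
    .psl 2 64, .psl 3 2, .psl 3 3, .psl 3 4, .psl 3 9, .psl 4 2, .psl 4 3, .psl 5 3, .psl 6 3,
    .psp 2 3, .psp 2 5, .psp 2 7, .psp 2 8, .psp 3 2, .psp 3 3,
    .psu 3 3, .psu 3 4, .psu 3 5, .psu 4 2, .psu 4 3, .psu 4 5, .psu 5 2, .psu 6 2,
    .oodd 3 3, .oplus 4 2, .oplus 4 3, .g2 3, .g2 4, .td4 2, .sz 8, .tits, .m11, .m12, .m22, .j2, .mcl, .hs, .suz,
    .fi22]

/-- the check: the name is in the list or the order has a prime divisor greater than 13 -/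
def chk (g : Grp) : Bool := NL.contains g || hasBad (ordN g)

theorem mem_of_chk {g : Grp} (h : chk g = true) (hs : Sm (ordN g)) : g ∈ NL := by
  rw [chk, not_hasBad hs, Bool.or_false, List.contains_iff_mem] at h
  exact h

theorem psl_chk : ∀ n < 13, ∀ q ∈ qL, 2 ≤ n → (n = 2 → 4 ≤ q) → chk (.psl n q) = true := by decide +kernel
theorem psp_chk : ∀ n < 7, ∀ q ∈ qL, 2 ≤ n → (n = 2 → 3 ≤ q) → chk (.psp n q) = true := by decide +kernel
theorem psu_chk : ∀ n < 7, ∀ q ∈ qL, 3 ≤ n → ¬ (n = 3 ∧ q = 2) → chk (.psu n q) = true := by decide +kernel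
theorem oodd_chk : ∀ n < 7, ∀ q ∈ qL, 3 ≤ n → q % 2 = 1 → chk (.oodd n q) = true := by decide +kernel
theorem oplus_chk : ∀ n < 8, ∀ q ∈ qL, 4 ≤ n → chk (.oplus n q) = true := by decide +kernel
theorem ominus_chk : ∀ n < 7, ∀ q ∈ qL, 4 ≤ n → chk (.ominus n q) = true := by decide +kernel
theorem ex_chk : ∀ q ∈ qL, (3 ≤ q → chk (.g2 q) = true) ∧ chk (.f4 q) = true ∧ chk (.e6 q) = true ∧
    chk (.e7 q) = true ∧ chk (.e8 q) = true ∧ chk (.te6 q) = true ∧ chk (.td4 q) = true := by decide +kernel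
theorem tw_chk : ∀ q ∈ qL, (q = 27 → chk (.ree q) = true) ∧ (q = 8 → chk (.tf4 q) = true) := by decide +kernel
theorem sz_chk : ∀ m < 6, 1 ≤ m → chk (.sz (2 ^ (2 * m + 1))) = true := by decide +kernel
theorem alt_chk : ∀ n < 17, 5 ≤ n → chk (.alt n) = true := by decide +kernel
theorem spor_chk : ∀ x ∈ spor, chk x.1 = true := by decide +kernel

variable {q c : ℕ}

/-- `e ≤ 12` if all primitive primes divide `c` -/
theorem e_le (hc : Sm c) (hq : 2 ≤ q) {e : ℕ} (he : 7 ≤ e) (h : ∀ r, Prim q e r → r ∣ c) : e ≤ 12 := by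
  obtain ⟨r, hr⟩ := exists_prim hq (by omega : 3 ≤ e) (by omega)
  exact Prim.le hr (hc r hr.prime (h r hr))

theorem sm_mq_two {q c : ℕ} (hq : 2 ≤ q) (h : den (.psl 2 q) * c = num (.psl 2 q)) (hc : Sm c) :
    Sm (q * (q ^ 2 - 1)) := by
  intro p hp hd
  have h1 : p ∈ c.primeFactors := by
    rw [psl_two_factors hq h]
    exact Nat.mem_primeFactors.2 ⟨hp, hd, mq_ne_zero hq⟩
  exact hc p hp (Nat.dvd_of_mem_primeFactors h1)

/-- **Names whose order has no prime divisor greater than 13.** -/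
theorem narrow {S : Type u} [Group S] [Finite S] {g : Grp} (h : IsNamed g S)
    (hs : Sm (Nat.card S)) : g ∈ NL := by
  have he := h.eq
  have hg := h.cond
  have ho := h.ord
  have hs' : Sm (ordN g) := by rw [← ho]; exact hs
  have hspor : g ∈ spor.map Prod.fst → g ∈ NL := by
    intro hm
    obtain ⟨x, hx, rfl⟩ := List.mem_map.1 hm
    exact mem_of_chk (spor_chk x hx) hs'
  cases g with
  | alt n =>
    have hn : n < 17 := by
      by_contra hlt
      have h1 : 2 * Nat.card S = n.factorial := he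
      have h2 : 17 ∣ Nat.card S := by
        apply Nat.dvd_of_mul_dvd_mul_left (show 0 < 2 by norm_num)
        rw [h1]
        exact (show 2 * 17 ∣ Nat.factorial 17 by decide +kernel).trans (Nat.factorial_dvd_factorial (by omega))
      have := hs 17 (by norm_num) h2
      omega
    exact mem_of_chk (alt_chk n hn hg) hs'
  | psl n q =>
    obtain ⟨hn, hn2, hq⟩ := hg
    have hq2 := hq.two_le
    have hm : Sm (q * (q ^ 2 - 1)) := by
      rcases Nat.lt_or_ge n 3 with h3 | h3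
      · obtain rfl : n = 2 := by omega
        exact sm_mq_two hq2 he hs
      · exact hs.dvd (psl_mq h3 hq2 he)
    have hn13 : n < 13 := by
      by_contra hlt
      have := e_le hs hq2 (e := 13) (by norm_num) (fun r hr => psl_prim (by omega) (by norm_num) he hr)
      omega
    exact mem_of_chk (psl_chk n hn13 q (q_mem hq hm) hn hn2) hs'
  | psp n q =>
    obtain ⟨hn, hn2, hq⟩ := hg
    have hq2 := hq.two_le
    have hm := hs.dvd (psp_mq hn he)
    have hn7 : n < 7 := by
      by_contra hlt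
      have := e_le hs hq2 (e := 14) (by norm_num) (fun r hr => psp_prim 7 (by norm_num) (by omega) (by norm_num)
        (by norm_num) he hr)
      omega
    exact mem_of_chk (psp_chk n hn7 q (q_mem hq hm) hn hn2) hs'
  | psu n q =>
    obtain ⟨hn, hn2, hq⟩ := hg
    have hq2 := hq.two_le
    have hm := hs.dvd (psu_mq hn he)
    have hn7 : n < 7 := by
      by_contra hlt
      have := e_le hs hq2 (e := 14) (by norm_num) (fun r hr => psu_prim_aux (i := 6) (by omega) (by norm_num) he hr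
        (by
          rw [show fU q 6 = q ^ 7 + 1 from rfl]
          exact hr.dvd_add (by norm_num) (by norm_num)))
      omega
    exact mem_of_chk (psu_chk n hn7 q (q_mem hq hm) hn hn2) hs'
  | oodd n q =>
    obtain ⟨hn, hodd, hq⟩ := hg
    have hq2 := hq.two_le
    have hm := hs.dvd (oodd_mq (by omega) hodd he)
    have hn7 : n < 7 := by
      by_contra hlt
      have := e_le hs hq2 (e := 14) (by norm_num) (fun r hr => oodd_prim 7 (by norm_num) (by omega) (by norm_num)
        (by norm_num) he hr)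
      omega
    exact mem_of_chk (oodd_chk n hn7 q (q_mem hq hm) hn (Nat.odd_iff.1 hodd)) hs'
  | oplus n q =>
    obtain ⟨hn, hq⟩ := hg
    have hq2 := hq.two_le
    have hm := hs.dvd (oplus_mq hn he)
    have hn8 : n < 8 := by
      by_contra hlt
      have := e_le hs hq2 (e := 14) (by norm_num) (fun r hr => oplus_prim 7 (by norm_num) (by omega) (by norm_num)
        (by norm_num) he hr)
      omega
    exact mem_of_chk (oplus_chk n hn8 q (q_mem hq hm) hn) hs'
  | ominus n q =>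
    obtain ⟨hn, hq⟩ := hg
    have hq2 := hq.two_le
    have hm := hs.dvd (ominus_mq hn he)
    have hn7 : n < 7 := by
      by_contra hlt
      have := e_le hs hq2 (e := 2 * n) (by omega) (fun r hr => ominus_prim' hn he hr)
      omega
    exact mem_of_chk (ominus_chk n hn7 q (q_mem hq hm) hn) hs'
  | g2 q =>
    obtain ⟨hq3, hq⟩ := hg
    have h1 : 1 * Nat.card S = q ^ 6 * ((q ^ 2 - 1) * (q ^ 6 - 1)) := he
    have hm : q * (q ^ 2 - 1) ∣ Nat.card S := mq_dvd (B := 1) h1 one_pos (dvd_pow_self q (by norm_num))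
      (by rw [mul_one]; exact Dvd.intro _ rfl) dvd_rfl
    exact mem_of_chk ((ex_chk q (q_mem hq (hs.dvd hm))).1 hq3) hs'
  | f4 q =>
    have h1 : 1 * Nat.card S = q ^ 24 * ((q ^ 2 - 1) * (q ^ 6 - 1) * (q ^ 8 - 1) * (q ^ 12 - 1)) := he
    have hm : q * (q ^ 2 - 1) ∣ Nat.card S := mq_dvd (B := 1) h1 one_pos (dvd_pow_self q (by norm_num))
      (by rw [mul_one]; exact ⟨(q ^ 6 - 1) * (q ^ 8 - 1) * (q ^ 12 - 1), by ring⟩) dvd_rfl
    exact mem_of_chk (ex_chk q (q_mem hg (hs.dvd hm))).2.1 hs'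
  | e6 q =>
    have h1 : Nat.gcd 3 (q - 1) * Nat.card S =
      q ^ 36 * ((q ^ 2 - 1) * (q ^ 5 - 1) * (q ^ 6 - 1) * (q ^ 8 - 1) * (q ^ 9 - 1) * (q ^ 12 - 1)) := he
    have hm : q * (q ^ 2 - 1) ∣ Nat.card S :=
      mq_dvd (B := q ^ 5 - 1) h1 (Nat.gcd_pos_of_pos_left _ (by norm_num))
      (dvd_pow_self q (by norm_num)) ⟨(q ^ 6 - 1) * (q ^ 8 - 1) * (q ^ 9 - 1) * (q ^ 12 - 1), by ring⟩
      ((Nat.gcd_dvd_right _ _).trans (sub_dvd_pow_sub q 5))
    exact mem_of_chk (ex_chk q (q_mem hg (hs.dvd hm))).2.2.1 hs'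
  | e7 q =>
    have h1 : Nat.gcd 2 (q - 1) * Nat.card S =
      q ^ 63 * ((q ^ 2 - 1) * (q ^ 6 - 1) * (q ^ 8 - 1) * (q ^ 10 - 1) * (q ^ 12 - 1) *
        (q ^ 14 - 1) * (q ^ 18 - 1)) := he
    have hm : q * (q ^ 2 - 1) ∣ Nat.card S :=
      mq_dvd (B := q ^ 6 - 1) h1 (Nat.gcd_pos_of_pos_left _ (by norm_num))
      (dvd_pow_self q (by norm_num)) ⟨(q ^ 8 - 1) * (q ^ 10 - 1) * (q ^ 12 - 1) * (q ^ 14 - 1) * (q ^ 18 - 1),
        by ring⟩
      ((Nat.gcd_dvd_right _ _).trans (sub_dvd_pow_sub q 6))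
    exact mem_of_chk (ex_chk q (q_mem hg (hs.dvd hm))).2.2.2.1 hs'
  | e8 q =>
    have h1 : 1 * Nat.card S =
      q ^ 120 * ((q ^ 2 - 1) * (q ^ 8 - 1) * (q ^ 12 - 1) * (q ^ 14 - 1) * (q ^ 18 - 1) *
        (q ^ 20 - 1) * (q ^ 24 - 1) * (q ^ 30 - 1)) := he
    have hm : q * (q ^ 2 - 1) ∣ Nat.card S := mq_dvd (B := 1) h1 one_pos
      (dvd_pow_self q (by norm_num)) ⟨(q ^ 8 - 1) * (q ^ 12 - 1) * (q ^ 14 - 1) * (q ^ 18 - 1) * (q ^ 20 - 1) *
        (q ^ 24 - 1) * (q ^ 30 - 1), by ring⟩ dvd_rfl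
    exact mem_of_chk (ex_chk q (q_mem hg (hs.dvd hm))).2.2.2.2.1 hs'
  | te6 q =>
    have h1 : Nat.gcd 3 (q + 1) * Nat.card S =
      q ^ 36 * ((q ^ 2 - 1) * (q ^ 5 + 1) * (q ^ 6 - 1) * (q ^ 8 - 1) * (q ^ 9 + 1) * (q ^ 12 - 1)) := he
    have hm : q * (q ^ 2 - 1) ∣ Nat.card S :=
      mq_dvd (B := q ^ 5 + 1) h1 (Nat.gcd_pos_of_pos_left _ (by norm_num))
      (dvd_pow_self q (by norm_num)) ⟨(q ^ 6 - 1) * (q ^ 8 - 1) * (q ^ 9 + 1) * (q ^ 12 - 1), by ring⟩
      ((Nat.gcd_dvd_right _ _).trans (add_dvd_pow_add q (by decide)))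
    exact mem_of_chk (ex_chk q (q_mem hg (hs.dvd hm))).2.2.2.2.2.1 hs'
  | td4 q =>
    have h1 : 1 * Nat.card S = q ^ 12 * ((q ^ 2 - 1) * (q ^ 6 - 1) * (q ^ 8 + q ^ 4 + 1)) := he
    have hm : q * (q ^ 2 - 1) ∣ Nat.card S := mq_dvd (B := 1) h1 one_pos (dvd_pow_self q (by norm_num))
      ⟨(q ^ 6 - 1) * (q ^ 8 + q ^ 4 + 1), by ring⟩ dvd_rfl
    exact mem_of_chk (ex_chk q (q_mem hg (hs.dvd hm))).2.2.2.2.2.2 hs'
  | sz q =>
    obtain ⟨m, hm1, hqm⟩ := hg
    have h1 : 1 * Nat.card S = q ^ 2 * ((q - 1) * (q ^ 2 + 1)) := he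
    have hm6 : m < 6 := by
      by_contra hlt
      have := e_le hs (q := 2) le_rfl (e := 2 * m + 1) (by omega) (fun r hr => by
        rw [one_mul] at h1
        rw [h1, hqm]
        exact ((hr.dvd dvd_rfl).mul_right _).mul_left _)
      omega
    subst hqm
    exact mem_of_chk (sz_chk m hm6 hm1) hs'
  | ree q =>
    obtain ⟨m, hm1, hqm⟩ := hg
    have hq27 : 27 ≤ q := by
      rw [hqm]
      calc 27 = 3 ^ 3 := by norm_num
        _ ≤ 3 ^ (2 * m + 1) := Nat.pow_le_pow_right (by norm_num) (by omega)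
    have hq : IsPrimePow q := by rw [hqm]; exact Nat.prime_three.isPrimePow.pow (by omega)
    have h1 : 1 * Nat.card S = q ^ 3 * ((q - 1) * (q ^ 3 + 1)) := he
    have hm : q * (q ^ 2 - 1) ∣ Nat.card S := mq_dvd (B := 1) h1 one_pos (dvd_pow_self q (by norm_num)) (by
      rw [mul_one, sq_sub, mul_comm (q + 1)]
      exact Nat.mul_dvd_mul_left _ (add_dvd_pow_add q (by decide))) dvd_rfl
    have hmem := q_mem hq (hs.dvd hm)
    have hq3 : 3 ∣ q := by rw [hqm]; exact dvd_pow_self 3 (by omega)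
    refine mem_of_chk ((tw_chk q hmem).1 ?_) hs'
    simp only [qL, List.mem_cons, List.not_mem_nil, or_false] at hmem
    omega
  | tf4 q =>
    obtain ⟨m, hm1, hqm⟩ := hg
    have hq8 : 8 ≤ q := by
      rw [hqm]
      calc 8 = 2 ^ 3 := by norm_num
        _ ≤ 2 ^ (2 * m + 1) := Nat.pow_le_pow_right (by norm_num) (by omega)
    have hq : IsPrimePow q := by rw [hqm]; exact Nat.prime_two.isPrimePow.pow (by omega)
    have h1 : 1 * Nat.card S = q ^ 12 * ((q - 1) * (q ^ 3 + 1) * (q ^ 4 - 1) * (q ^ 6 + 1)) := he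
    have hm : q * (q ^ 2 - 1) ∣ Nat.card S := mq_dvd (B := 1) h1 one_pos (dvd_pow_self q (by norm_num)) (by
      rw [mul_one]
      have h2 : q ^ 2 - 1 ∣ q ^ 4 - 1 := by
        have := sub_dvd_pow_sub (q ^ 2) 2
        rwa [← pow_mul] at this
      exact (h2.mul_left _).mul_right _) dvd_rfl
    have hmem := q_mem hq (hs.dvd hm)
    refine mem_of_chk ((tw_chk q hmem).2 ?_) hs'
    have h64 : q ≠ 64 := by
      rintro rfl
      have h3 : (2 : ℕ) ^ 6 = 2 ^ (2 * m + 1) := by rw [← hqm]; norm_num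
      have := Nat.pow_right_injective le_rfl h3
      omega
    have h2 : 2 ∣ q := by rw [hqm]; exact dvd_pow_self 2 (by omega)
    simp only [qL, List.mem_cons, List.not_mem_nil, or_false] at hmem
    omega
  | tits => exact hspor (by decide)
  | m11 => exact hspor (by decide)
  | m12 => exact hspor (by decide)
  | m22 => exact hspor (by decide)
  | m23 => exact hspor (by decide)
  | m24 => exact hspor (by decide)
  | j1 => exact hspor (by decide)
  | j2 => exact hspor (by decide)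
  | j3 => exact hspor (by decide)
  | j4 => exact hspor (by decide)
  | co1 => exact hspor (by decide)
  | co2 => exact hspor (by decide)
  | co3 => exact hspor (by decide)
  | mcl => exact hspor (by decide)
  | hs => exact hspor (by decide)
  | suz => exact hspor (by decide)
  | he => exact hspor (by decide)
  | ru => exact hspor (by decide)
  | on => exact hspor (by decide)
  | ly => exact hspor (by decide)
  | fi22 => exact hspor (by decide)
  | fi23 => exact hspor (by decide)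
  | fi24 => exact hspor (by decide)
  | hn => exact hspor (by decide)
  | th => exact hspor (by decide)
  | b => exact hspor (by decide)
  | m => exact hspor (by decide)

end Cfsg.Agent.H421.Narrow
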