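import Cfsg.Agent.H421.Rows
import Cfsg.Agent.H421.Narrow
import Cfsg.Agent.H436.Simple
import Cfsg.Agent.S3656
import Cfsg.Agent.S4008

/-!
# Groups with the prime graph of `PSL₆(3)`: the simple section (helper421)

`six_section` : a finite group with the prime divisors and the nonadjacent pairs of `PSL₆(3)` has a solvable normal
subgroup `K` such that `G ⧸ K` is almost simple with socle `PSL₆(3)`.
-/

set_option autoImplicit false

namespace Cfsg.Agent.H421.Six

open Cfsg Cfsg.Agent.H421.Act Cfsg.Agent.OrdDiv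

universe u

/-- The solvable radical and the simple group above it. -/
structure Sec (G : Type u) [Group G] (K : Subgroup G) [K.Normal] (S : Subgroup (G ⧸ K)) : Prop where
  solv : Group.IsSolvable K
  simple : IsSimpleGroup S
  nonab : ¬ IsMulCommutative S
  cent : Subgroup.centralizer (S : Set (G ⧸ K)) = ⊥
  cocl : ∀ r s t : ℕ, r.Prime → s.Prime → t.Prime → r ≠ s → r ≠ t → s ≠ t → r ∣ Nat.card G → s ∣ Nat.card G →
    t ∣ Nat.card G → (∀ g : G, orderOf g ≠ r * s) → (∀ g : G, orderOf g ≠ r * t) → (∀ g : G, orderOf g ≠ s * t) →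
    r ∣ Nat.card K * S.index → ¬ s ∣ Nat.card K * S.index

/-- the solvable radical -/
theorem exists_rad (G : Type u) [Group G] [Finite G] : ∃ K : Subgroup G, K.Normal ∧ Group.IsSolvable K ∧
    ∀ M : Subgroup G, M.Normal → Group.IsSolvable M → M ≤ K := by
  classical
  obtain ⟨K, ⟨hKn, hKs⟩, hmax⟩ := Set.Finite.exists_maximal (s := {K : Subgroup G | K.Normal ∧ Group.IsSolvable K})
    (Set.toFinite _) ⟨⊥, inferInstance, inferInstance⟩
  refine ⟨K, hKn, hKs, fun M hM hMs => ?_⟩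
  have h1 : Group.IsSolvable ↥(K ⊔ M) :=
    Cfsg.Agent.SignalizersComponents.CoprimeBasic.isSolvable_sup
      (by rw [Subgroup.normalizer_eq_top]; exact le_top) hKs hMs
  have h2 : K ⊔ M ≤ K := hmax ⟨inferInstance, h1⟩ le_sup_left
  exact le_sup_right.trans h2

theorem exists_sec {G : Type u} [Group G] [Finite G] {r s t : ℕ} (hr : r.Prime) (hs : s.Prime) (ht : t.Prime)
    (hrs : r ≠ s) (hrt : r ≠ t) (hst : s ≠ t) (h2 : 2 ∣ Nat.card G) (hr2 : r ≠ 2) (hrG : r ∣ Nat.card G)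
    (hsG : s ∣ Nat.card G) (htG : t ∣ Nat.card G) (n2 : ∀ g : G, orderOf g ≠ 2 * r)
    (nrs : ∀ g : G, orderOf g ≠ r * s) (nrt : ∀ g : G, orderOf g ≠ r * t) (nst : ∀ g : G, orderOf g ≠ s * t) :
    ∃ (K : Subgroup G) (_ : K.Normal) (S : Subgroup (G ⧸ K)) (_ : S.Normal), Sec G K S := by
  obtain ⟨K, hKn, hKs, hKmax⟩ := exists_rad G
  have hns : ¬ Group.IsSolvable G := fun h =>
    Coclique.solvable_no_three h hr hs ht hrs hrt hst hrG hsG htG (fun ⟨x, hx⟩ => nrs x hx)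
      (fun ⟨x, hx⟩ => nrt x hx) (fun ⟨x, hx⟩ => nst x hx)
  obtain ⟨S, hSn, hS, hSna, hSc⟩ := Cfsg.Agent.S4008.result hns (even_iff_two_dvd.2 h2) r hr hr2 hrG n2 K hKs hKmax
  refine ⟨K, hKn, S, hSn, hKs, hS, hSna, hSc, ?_⟩
  intro a b c ha hb hc hab hac hbc haG hbG hcG nab nac nbc haK hbK
  have := Cfsg.Agent.S3656.result hns ⟨r, hr, hr2, hrG, fun ⟨x, hx⟩ => n2 x hx⟩ K hKs hKmax S hS hSna hSc {a, b, c}
    (by rw [Finset.card_eq_three.2 ⟨a, b, c, hab, hac, hbc, rfl⟩]) ⟨?_, ?_⟩ a (by simp) b (by simp) haK hbK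
  · exact hab this
  · intro x hx
    simp only [Finset.mem_insert, Finset.mem_singleton] at hx
    rcases hx with rfl | rfl | rfl
    · exact ⟨ha, haG⟩
    · exact ⟨hb, hbG⟩
    · exact ⟨hc, hcG⟩
  · intro x hx y hy hxy
    simp only [Finset.mem_insert, Finset.mem_singleton] at hx hy
    rintro ⟨g, hg⟩
    rcases hx with rfl | rfl | rfl <;> rcases hy with rfl | rfl | rfl
    · exact hxy rfl
    · exact nab g hg
    · exact nac g hg
    · exact nab g (by rw [hg, mul_comm])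
    · exact hxy rfl
    · exact nbc g hg
    · exact nac g (by rw [hg, mul_comm])
    · exact nbc g (by rw [hg, mul_comm])
    · exact hxy rfl

section

variable {G : Type u} [Group G] [Finite G] {K : Subgroup G} [K.Normal] {S : Subgroup (G ⧸ K)} [S.Normal]

theorem card_eq : Nat.card G = Nat.card K * (Nat.card S * S.index) := by
  rw [Subgroup.card_mul_index, ← Subgroup.index_eq_card, Subgroup.card_mul_index]

/-- element orders lift from `S` -/
theorem lift_order {n : ℕ} (h : ∃ s : S, orderOf s = n) : ∃ g : G, orderOf g = n := by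
  obtain ⟨s, hs⟩ := h
  obtain ⟨g, hg, -⟩ := orderOf_lift (QuotientGroup.mk' K) (QuotientGroup.mk'_surjective K) (s : G ⧸ K)
  exact ⟨g, by rw [hg, Subgroup.orderOf_coe, hs]⟩

theorem lift_order' {n : ℕ} (h : ∃ s : G ⧸ K, orderOf s = n) : ∃ g : G, orderOf g = n := by
  obtain ⟨s, hs⟩ := h
  obtain ⟨g, hg, -⟩ := orderOf_lift (QuotientGroup.mk' K) (QuotientGroup.mk'_surjective K) s
  exact ⟨g, by rw [hg, hs]⟩

/-- a prime dividing `|G|` and not `|K| |G/K : S|` divides `|S|` -/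
theorem dvd_S {p : ℕ} (hp : p.Prime) (h : p ∣ Nat.card G) (hn : ¬ p ∣ Nat.card K * S.index) : p ∣ Nat.card S := by
  rw [card_eq (K := K) (S := S), ← mul_assoc, mul_comm (Nat.card K), mul_assoc] at h
  exact (hp.dvd_mul.1 h).resolve_right hn

/-- a prime `t` dividing `|G|`, not `|S|`, and for which the Sylow `a`-subgroups of `S` have order `≢ 1`: `t ∣ |K|`,
`t ∤ |G/K|` -/
theorem dvd_K {a t : ℕ} (ha : a.Prime) (ht : t.Prime) (hat : a ≠ t) (hG : t ∣ Nat.card G) (hS : ¬ t ∣ Nat.card S)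
    (hno : ∀ g : G, orderOf g ≠ a * t) (hQ : ¬ a ^ (Nat.card S).factorization a ≡ 1 [MOD t]) :
    t ∣ Nat.card K ∧ ¬ t ∣ Nat.card (G ⧸ K) := by
  have h1 : ¬ t ∣ Nat.card (G ⧸ K) := by
    intro h
    obtain ⟨g, hg⟩ := exists_mul_of_card S ha ht hS h hQ hat
    obtain ⟨g', hg'⟩ := lift_order' (K := K) ⟨g, hg⟩
    exact hno g' hg'
  refine ⟨?_, h1⟩
  have h2 : Nat.card G = Nat.card K * Nat.card (G ⧸ K) := by
    rw [← Subgroup.index_eq_card, Subgroup.card_mul_index]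
  rw [h2] at hG
  exact (ht.dvd_mul.1 hG).resolve_right h1

end

theorem factorization_eq {n p k m : ℕ} (hp : p.Prime) (h : n = p ^ k * m) (hm : ¬ p ∣ m) : n.factorization p = k := by
  have hm0 : m ≠ 0 := fun h0 => hm (h0 ▸ dvd_zero p)
  rw [h, Nat.factorization_mul (pow_ne_zero _ hp.ne_zero) hm0, Finsupp.add_apply, hp.factorization_pow,
    Finsupp.single_eq_same, Nat.factorization_eq_zero_of_not_dvd hm, add_zero]

/-- the prime divisors and nonadjacent pairs of `PSL₆(3)` -/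
structure GS (G : Type u) [Group G] : Prop where
  primes : ∀ p : ℕ, p.Prime → (p ∣ Nat.card G ↔ p ∈ [2, 3, 5, 7, 11, 13])
  n11 : ∀ r : ℕ, r.Prime → r ≠ 11 → ∀ g : G, orderOf g ≠ 11 * r
  n57 : ∀ g : G, orderOf g ≠ 5 * 7
  n513 : ∀ g : G, orderOf g ≠ 5 * 13
  n37 : ∀ g : G, orderOf g ≠ 3 * 7

open Cfsg.Agent.H421.Narrow in
theorem nl_check : ∀ g ∈ NL, 11 ∣ ordN g →
    ((¬ 7 ∣ ordN g ∨ ¬ 13 ∣ ordN g) ∧ ordN g = 11 * (ordN g / 11) ∧ ¬ 11 ∣ ordN g / 11 ∧ ordN g / 11 % 11 = 5) ∨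
    (g = .psl 5 3 ∧ ordN g = 11 ^ 2 * (ordN g / 121) ∧ ¬ 11 ∣ ordN g / 121 ∧ ¬ 7 ∣ ordN g) ∨
    g ∈ [Grp.alt 13, .alt 14, .alt 15, .alt 16, .suz, .fi22, .psl 6 3] := by
  decide +kernel

theorem div_ten {w : ℕ} (h : w ∣ 11 - 1) (h5 : 5 ≡ w [MOD 11]) : 5 ∣ w := by
  have h1 : w ≤ 10 := Nat.le_of_dvd (by norm_num) h
  interval_cases w <;> revert h5 <;> decide

theorem six_section {G : Type} [Group G] [Finite G] (h : GS G) :
    ∃ (K : Subgroup G) (_ : K.Normal) (S : Subgroup (G ⧸ K)) (_ : S.Normal), Sec G K S ∧ Real (.psl 6 3) S := by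
  have hp : ∀ p ∈ [2, 3, 5, 7, 11, 13], p.Prime ∧ p ∣ Nat.card G := by
    intro p hpl
    have h1 : p.Prime := by
      simp only [List.mem_cons, List.not_mem_nil, or_false] at hpl
      rcases hpl with rfl | rfl | rfl | rfl | rfl | rfl <;> norm_num
    exact ⟨h1, (h.primes p h1).2 hpl⟩
  obtain ⟨p2, d2⟩ := hp 2 (by simp)
  obtain ⟨p3, d3⟩ := hp 3 (by simp)
  obtain ⟨p5, d5⟩ := hp 5 (by simp)
  obtain ⟨p7, d7⟩ := hp 7 (by simp)
  obtain ⟨p11, d11⟩ := hp 11 (by simp)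
  obtain ⟨p13, d13⟩ := hp 13 (by simp)
  have n211 : ∀ g : G, orderOf g ≠ 2 * 11 := fun g hg => h.n11 2 p2 (by norm_num) g (by rw [hg])
  obtain ⟨K, hKn, S, hSn, hsec⟩ := exists_sec (G := G) p11 p5 p7 (by norm_num) (by norm_num) (by norm_num) d2
    (by norm_num) d11 d5 d7 n211 (h.n11 5 p5 (by norm_num)) (h.n11 7 p7 (by norm_num)) h.n57
  refine ⟨K, hKn, S, hSn, hsec, ?_⟩
  have hsimp := hsec.simple
  obtain ⟨g, hg⟩ := Cfsg.Agent.H436.name (G := S) hsec.nonab
  -- smoothness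
  have hdS : Nat.card S ∣ Nat.card G := by
    rw [card_eq (K := K) (S := S), ← mul_assoc, mul_comm (Nat.card K), mul_assoc]
    exact dvd_mul_right _ _
  have hsm : Narrow.Sm (Nat.card S) := by
    intro p hpp hpd
    have h1 := (h.primes p hpp).1 (hpd.trans hdS)
    simp only [List.mem_cons, List.not_mem_nil, or_false] at h1
    omega
  have hNL := Narrow.narrow hg hsm
  have hord : Nat.card S = ordN g := hg.ord
  have hcd : ∀ p : ℕ, p ∣ Nat.card K → p ∣ Nat.card K * S.index := fun p hd => hd.trans (dvd_mul_right _ _)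
  -- `11 ∣ |S|`
  have h11 : 11 ∣ Nat.card S := by
    by_contra hn
    have h1 : ¬ 11 ∣ Nat.card (G ⧸ K) := by
      refine outer_isolated S hsec.simple hsec.nonab p11 hn ?_
      intro p hpp hpS y hy
      obtain ⟨g', hg'⟩ := lift_order' (K := K) ⟨y, hy⟩
      have hne : p ≠ 11 := by rintro rfl; exact hn hpS
      exact h.n11 p hpp hne g' (by rw [hg', mul_comm])
    have h2 : 11 ∣ Nat.card K := by
      have h3 : Nat.card G = Nat.card K * Nat.card (G ⧸ K) := by
        rw [← Subgroup.index_eq_card, Subgroup.card_mul_index]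
      rw [h3] at d11
      exact (p11.dvd_mul.1 d11).resolve_right h1
    have h4 : ¬ 7 ∣ Nat.card K * S.index :=
      hsec.cocl 11 7 5 p11 p7 p5 (by norm_num) (by norm_num) (by norm_num) d11 d7 d5
        (h.n11 7 p7 (by norm_num)) (h.n11 5 p5 (by norm_num))
        (fun g hg => h.n57 g (by rw [hg])) (hcd 11 h2)
    have h5 : 7 ∣ Nat.card S := dvd_S p7 d7 h4
    have h6 := card_dvd_of_isolated K p11 h2 h1 (fun r hr hne g => h.n11 r hr hne g) S hsec.simple hsec.nonab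
    have h7 := h5.trans h6
    norm_num at h7
  have hS11 : ∀ r : ℕ, r.Prime → r ≠ 11 → ∀ s : S, orderOf s ≠ 11 * r := by
    intro r hr hne s hs
    obtain ⟨g', hg'⟩ := lift_order (K := K) (S := S) ⟨s, hs⟩
    exact h.n11 r hr hne g' hg'
  -- the exclusion of a missing prime
  have hexcl : ∀ t : ℕ, t = 7 ∨ t = 13 → ¬ t ∣ Nat.card S →
      ¬ 11 ^ (Nat.card S).factorization 11 ≡ 1 [MOD t] →
      (∃ x z : S, orderOf x = 11 ∧ orderOf z = 5 ∧ z * x * z⁻¹ ∈ Subgroup.zpowers x ∧ z * x ≠ x * z) → False := by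
    rintro t ht htS hQ ⟨x, z, hx, hz, ⟨k, hk⟩, hne⟩
    have htp : t.Prime := by rcases ht with rfl | rfl <;> assumption
    have htG : t ∣ Nat.card G := by rcases ht with rfl | rfl <;> assumption
    have ht11 : 11 ≠ t := by rcases ht with rfl | rfl <;> norm_num
    have ht5 : 5 ≠ t := by rcases ht with rfl | rfl <;> norm_num
    have h5t : ∀ g : G, orderOf g ≠ 5 * t := by
      rcases ht with rfl | rfl
      · exact h.n57
      · exact h.n513
    have h11t : ∀ g : G, orderOf g ≠ 11 * t := h.n11 t htp (Ne.symm ht11)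
    obtain ⟨h1, h2⟩ := dvd_K (K := K) (S := S) p11 htp ht11 htG htS h11t hQ
    have h3 : ¬ 11 ∣ Nat.card K := by
      intro h4
      exact hsec.cocl t 11 5 htp p11 p5 (Ne.symm ht11) (Ne.symm ht5) (by norm_num) htG d11 d5
        (fun g hg => h11t g (by rw [hg, mul_comm])) (fun g hg => h5t g (by rw [hg, mul_comm]))
        (h.n11 5 p5 (by norm_num)) (hcd t h1) (hcd 11 h4)
    refine frob_false K p11 p5 htp (by norm_num) ht11 ht5 h3 h1 (h.n11 5 p5 (by norm_num)) h11t h5t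
      (x := (x : G ⧸ K)) (z := (z : G ⧸ K)) (by rw [Subgroup.orderOf_coe, hx]) (by rw [Subgroup.orderOf_coe, hz])
      ⟨k, ?_⟩ fun hc => hne (Subtype.ext hc)
    have := congrArg Subtype.val hk
    simpa using this
  have hcases := nl_check g hNL (by rw [← hord]; exact h11)
  rw [← hord] at hcases
  rcases hcases with ⟨hmiss, hm1, hm2, hm3⟩ | ⟨rfl, hm1, hm2, hm3⟩ | hfull
  · exfalso
    obtain ⟨w, hw1, hw2, hw3⟩ := sylow_count p11 hm1 hm2 hS11
    have h5w : 5 ∣ w := div_ten hw1 (by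
      have h6 : 5 ≡ Nat.card S / 11 [MOD 11] := by
        rw [Nat.ModEq, hm3]
      exact h6.trans hw2)
    have hv : (Nat.card S).factorization 11 = 1 :=
      factorization_eq p11 (by rw [pow_one]; exact hm1) hm2
    have hfr := hw3 5 p5 h5w
    rcases hmiss with h7 | h13
    · exact hexcl 7 (Or.inl rfl) h7 (by rw [hv]; decide) hfr
    · exact hexcl 13 (Or.inr rfl) h13 (by rw [hv]; decide) hfr
  · exfalso
    have hv : (Nat.card S).factorization 11 = 2 := factorization_eq p11 hm1 hm2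
    exact hexcl 7 (Or.inl rfl) hm3 (by rw [hv]; decide) (Rows.psl5_frob hg.real)
  · have h35 : ∀ s : S, orderOf s ≠ 5 * 7 := by
      intro s hs
      obtain ⟨g', hg'⟩ := lift_order (K := K) (S := S) ⟨s, hs⟩
      exact h.n57 g' hg'
    simp only [List.mem_cons, List.not_mem_nil, or_false] at hfull
    rcases hfull with rfl | rfl | rfl | rfl | rfl | rfl | rfl
    · obtain ⟨e⟩ := hg.real
      obtain ⟨s, hs⟩ := Rows.alt_35 (by norm_num) e
      exact absurd hs (h35 s)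
    · obtain ⟨e⟩ := hg.real
      obtain ⟨s, hs⟩ := Rows.alt_35 (by norm_num) e
      exact absurd hs (h35 s)
    · obtain ⟨e⟩ := hg.real
      obtain ⟨s, hs⟩ := Rows.alt_35 (by norm_num) e
      exact absurd hs (h35 s)
    · obtain ⟨e⟩ := hg.real
      obtain ⟨s, hs⟩ := Rows.alt_35 (by norm_num) e
      exact absurd hs (h35 s)
    · obtain ⟨s, hs⟩ := Rows.suz_21 hg.real
      obtain ⟨g', hg'⟩ := lift_order (K := K) (S := S) ⟨s, hs⟩
      exact absurd hg' (h.n37 g')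
    · obtain ⟨s, hs⟩ := Rows.fi22_22 hg.real
      exact absurd hs (hS11 2 p2 (by norm_num) s)
    · exact hg.real

end Cfsg.Agent.H421.Six
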