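import Cfsg.Agent.H370.DP.Def2
import Cfsg.Agent.H414.T29.Frob

/-!
# `PSL_m(2)` : elements of order a power of two, affine Frobenius groups (helper421, for helper370's S3624)
-/

set_option autoImplicit false

namespace Cfsg.Agent.H421.DPTwo

open Matrix Cfsg.Agent.H370.DP Cfsg.Agent.H414.T29

variable {F : Type*} [Field F]

section gen

variable {ι κ : Type*} [Fintype ι] [DecidableEq ι] [Fintype κ] [DecidableEq κ]

/-- upper left corner -/
def emb : SpecialLinearGroup ι F →* SpecialLinearGroup (ι ⊕ κ) F where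
  toFun A := ⟨fromBlocks A.1 0 0 1, by rw [det_fromBlocks_zero₂₁, det_one, mul_one, A.2]⟩
  map_one' := Subtype.ext fromBlocks_one
  map_mul' A B := by
    apply Subtype.ext
    change fromBlocks (A.1 * B.1) 0 0 1 = fromBlocks A.1 0 0 1 * fromBlocks B.1 0 0 1
    rw [fromBlocks_multiply]
    simp

theorem emb_injective : Function.Injective (emb (F := F) (ι := ι) (κ := κ)) := by
  intro A B h
  exact Subtype.ext (Matrix.fromBlocks_inj.1 (congrArg Subtype.val h)).1

/-- change of the index set -/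
def re (e : ι ≃ κ) : SpecialLinearGroup ι F →* SpecialLinearGroup κ F where
  toFun A := ⟨reindex e e A.1, by rw [det_reindex_self, A.2]⟩
  map_one' := by
    apply Subtype.ext
    change reindex e e 1 = 1
    simp
  map_mul' A B := by
    apply Subtype.ext
    change reindex e e (A.1 * B.1) = reindex e e A.1 * reindex e e B.1
    simp [reindex_apply, submatrix_mul_equiv]

theorem re_injective (e : ι ≃ κ) : Function.Injective (re (F := F) e) := by
  intro A B h
  exact Subtype.ext ((reindex e e).injective (congrArg Subtype.val h))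

/-- nilpotent matrices -/
theorem pow_card_eq_zero {M : Matrix ι ι F} {k : ℕ} (h : M ^ k = 0) : M ^ Fintype.card ι = 0 := by
  have h1 : (Matrix.toLin' M).charpoly = Polynomial.X ^ Module.finrank F (ι → F) := by
    rw [LinearMap.charpoly_eq_X_pow_iff]
    intro v
    refine ⟨k, ?_⟩
    rw [← Matrix.toLin'_pow, h, map_zero, LinearMap.zero_apply]
  have h2 := (Matrix.toLin' M).aeval_self_charpoly
  rw [h1, map_pow, Polynomial.aeval_X, Module.finrank_fintype_fun_eq_card, ← Matrix.toLin'_pow] at h2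
  exact (Matrix.toLin' (R := F) (m := ι) (n := ι)).map_eq_zero_iff.1 h2

end gen

theorem pr_surjective (m : ℕ) : Function.Surjective (QuotientGroup.mk' (Subgroup.center (SpecialLinearGroup (Fin m) F))) :=
  QuotientGroup.mk'_surjective _

/-- the shift -/
def sh (F : Type*) [Field F] (m : ℕ) : Matrix (Fin m) (Fin m) F := Matrix.of fun i j => if (j : ℕ) = i + 1 then 1 else 0

theorem sh_pow (m k : ℕ) : sh F m ^ k = Matrix.of fun (i j : Fin m) => if (j : ℕ) = (i : ℕ) + k then (1 : F) else 0 := by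
  induction k with
  | zero =>
    ext i j
    simp only [pow_zero, Matrix.one_apply, Matrix.of_apply, add_zero]
    by_cases h : i = j
    · rw [if_pos h, if_pos (by rw [h])]
    · rw [if_neg h, if_neg (fun h' => h (Fin.ext h'.symm))]
  | succ k ih =>
    rw [pow_succ, ih]
    ext i j
    rw [Matrix.mul_apply, Matrix.of_apply]
    simp only [sh, Matrix.of_apply, ite_mul, one_mul, zero_mul]
    by_cases h : (j : ℕ) = i + (k + 1)
    · rw [if_pos h, Finset.sum_eq_single ⟨i + k, by have := j.2; omega⟩]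
      · rw [if_pos rfl, if_pos (by simp only; omega)]
      · intro b _ hb
        rw [if_neg]
        intro h'
        exact hb (Fin.ext h')
      · intro h'
        exact absurd (Finset.mem_univ _) h'
    · rw [if_neg h]
      apply Finset.sum_eq_zero
      intro b _
      by_cases h' : (b : ℕ) = i + k
      · rw [if_pos h', if_neg]
        omega
      · rw [if_neg h']

variable [Fintype F]

theorem eq_one_of_ne (hF : Fintype.card F = 2) {x : F} (hx : x ≠ 0) : x = 1 := by
  classical
  by_contra h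
  have h1 := Finset.card_le_univ ({0, 1, x} : Finset F)
  rw [Finset.card_eq_three.2 ⟨0, 1, x, zero_ne_one, Ne.symm hx, Ne.symm h, rfl⟩, hF] at h1
  omega

theorem charTwo (hF : Fintype.card F = 2) : CharP F 2 := by
  have : Fact (Nat.Prime 2) := ⟨Nat.prime_two⟩
  exact charP_of_card_eq_prime hF

/-- the projection -/
abbrev pr (F : Type*) [Field F] (m : ℕ) : SpecialLinearGroup (Fin m) F →* PL F m := QuotientGroup.mk' _

theorem pr_injective (hF : Fintype.card F = 2) (m : ℕ) : Function.Injective (pr F m) := by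
  rw [injective_iff_map_eq_one]
  intro A hA
  have h1 : A ∈ Subgroup.center (SpecialLinearGroup (Fin m) F) := (QuotientGroup.eq_one_iff A).1 hA
  obtain ⟨r, hr, h⟩ := Matrix.SpecialLinearGroup.mem_center_iff.1 h1
  rcases Nat.eq_zero_or_pos m with rfl | hm
  · exact Subsingleton.elim _ _
  · have hr0 : r ≠ 0 := by
      rintro rfl
      rw [zero_pow (by simpa using hm.ne')] at hr
      exact zero_ne_one hr
    rw [eq_one_of_ne hF hr0, map_one] at h
    exact Subtype.ext h.symm

theorem orderOf_pr (hF : Fintype.card F = 2) {m : ℕ} (A : SpecialLinearGroup (Fin m) F) :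
    orderOf (pr F m A) = orderOf A := orderOf_injective _ (pr_injective hF m) A

theorem sub_one_pow (hF : Fintype.card F = 2) {m : ℕ} (A : Matrix (Fin m) (Fin m) F) (k : ℕ) :
    (A - 1) ^ 2 ^ k = A ^ 2 ^ k - 1 := by
  have := charTwo hF
  have : Fact (Nat.Prime 2) := ⟨Nat.prime_two⟩
  rcases Nat.eq_zero_or_pos m with rfl | hm
  · exact Subsingleton.elim _ _
  · have : Nonempty (Fin m) := ⟨⟨0, hm⟩⟩
    rw [sub_pow_char_pow_of_commute _ _ (Commute.one_right A), one_pow]

theorem two_pow (hF : Fintype.card F = 2) {l m : ℕ} (hm : m ≤ 2 ^ l) (g : PL F m) : ¬ 2 ^ (l + 1) ∣ orderOf g := by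
  intro hd
  obtain ⟨A, rfl⟩ := pr_surjective m g
  rw [orderOf_pr hF] at hd
  obtain ⟨c, hc⟩ := hd
  have ho : orderOf (A ^ c) = 2 ^ (l + 1) := by
    have hpos := orderOf_pos A
    have hc0 : c ≠ 0 := by
      rintro rfl
      rw [mul_zero] at hc
      omega
    rw [orderOf_pow_of_dvd hc0 (Dvd.intro_left _ hc.symm), hc, Nat.mul_div_cancel _ (Nat.pos_of_ne_zero hc0)]
  have h1 : (A ^ c).1 ^ 2 ^ (l + 1) = 1 := by
    have := congrArg Subtype.val (pow_orderOf_eq_one (A ^ c))
    rwa [ho] at this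
  have h2 : ((A ^ c).1 - 1) ^ 2 ^ (l + 1) = 0 := by rw [sub_one_pow hF, h1, sub_self]
  have h3 := pow_card_eq_zero h2
  rw [Fintype.card_fin] at h3
  have h4 : ((A ^ c).1 - 1) ^ 2 ^ l = 0 := pow_eq_zero_of_le hm h3
  rw [sub_one_pow hF, sub_eq_zero] at h4
  have h5 : (A ^ c) ^ 2 ^ l = 1 := Subtype.ext h4
  have h6 := Nat.le_of_dvd (by positivity) (orderOf_dvd_of_pow_eq_one h5)
  rw [ho, pow_succ] at h6
  have : 0 < 2 ^ l := by positivity
  omega

theorem exists_two_pow (hF : Fintype.card F = 2) {l m : ℕ} (hl : 1 ≤ l) (hm : 2 ^ (l - 1) < m) :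
    ∃ g : PL F m, orderOf g = 2 ^ l := by
  obtain ⟨l, rfl⟩ : ∃ l', l = l' + 1 := ⟨l - 1, by omega⟩
  rw [Nat.add_sub_cancel] at hm
  have hnil : sh F m ^ m = 0 := by
    rw [sh_pow]
    ext i j
    rw [Matrix.of_apply, if_neg, Matrix.zero_apply]
    have := j.2
    omega
  have hu : IsUnit (1 + sh F m) := by
    have h1 : IsNilpotent (sh F m) := ⟨m, hnil⟩
    exact h1.isUnit_one_add
  have hdet : (1 + sh F m).det = 1 := eq_one_of_ne hF ((Matrix.isUnit_iff_isUnit_det _).1 hu).ne_zero
  let A : SpecialLinearGroup (Fin m) F := ⟨1 + sh F m, hdet⟩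
  have hA : A.1 - 1 = sh F m := add_sub_cancel_left _ _
  have h1 : A ^ 2 ^ m = 1 := by
    apply Subtype.ext
    change A.1 ^ 2 ^ m = 1
    rw [← sub_eq_zero, ← sub_one_pow hF, hA]
    exact pow_eq_zero_of_le Nat.lt_two_pow_self.le hnil
  have h2 : A ^ 2 ^ l ≠ 1 := by
    intro h
    have h3 : A.1 ^ 2 ^ l = 1 := congrArg Subtype.val h
    rw [← sub_eq_zero, ← sub_one_pow hF, hA, sh_pow] at h3
    have hm0 : 0 < m := lt_of_le_of_lt (Nat.zero_le _) hm
    have h4 := congrFun (congrFun h3 ⟨0, hm0⟩) ⟨2 ^ l, hm⟩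
    rw [Matrix.of_apply, if_pos (by simp), Matrix.zero_apply] at h4
    exact one_ne_zero h4
  obtain ⟨s, -, hs⟩ := (Nat.dvd_prime_pow Nat.prime_two).1 (orderOf_dvd_of_pow_eq_one h1)
  have hls : l + 1 ≤ s := by
    by_contra hc
    apply h2
    rw [← orderOf_dvd_iff_pow_eq_one, hs]
    exact pow_dvd_pow 2 (by omega)
  refine ⟨pr F m A ^ 2 ^ (s - (l + 1)), ?_⟩
  have h3 : orderOf (pr F m A) = 2 ^ s := by rw [orderOf_pr hF, hs]
  rw [orderOf_pow_of_dvd (by positivity) (by rw [h3]; exact pow_dvd_pow 2 (by omega)), h3,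
    Nat.pow_div (by omega) (by norm_num)]
  congr 1
  omega

/-- fixed points -/
theorem eq_one_of_comm {N : ℕ} {K : Type*} [Field K] [Algebra F K] (b : Module.Basis (Fin N) F K)
    (hF : Fintype.card F = 2) (a : Kˣ) (v : Matrix (Fin N) Unit F) (hv : v ≠ 0)
    (h : mhom b a * thom (Multiplicative.ofAdd v) = thom (Multiplicative.ofAdd v) * mhom b a) : a = 1 := by
  set d := (Algebra.leftMulMatrix b (a : K)).det with hd
  have hd0 : d = 1 := eq_one_of_ne hF (det_ne_zero_unit b a)
  have h1 : mhom b a * thom (Multiplicative.ofAdd v) * (mhom b a)⁻¹ = thom (Multiplicative.ofAdd v) := by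
    rw [mul_inv_eq_iff_eq_mul, h]
  rw [mhom_mul_thom] at h1
  have h2 : d • (Algebra.leftMulMatrix b (a : K) * v) = v := thom_injective h1
  rw [hd0, one_smul] at h2
  let x : K := b.equivFun.symm (fun i => v i ())
  have hx : ∀ i, b.repr x i = v i () := fun i => by
    have := congrFun (b.equivFun.apply_symm_apply (fun i => v i ())) i
    rwa [Module.Basis.equivFun_apply] at this
  have hx0 : x ≠ 0 := by
    intro h0
    apply hv
    ext i j
    rw [← hx i, h0]
    simp
  have h3 : (a : K) * x = x := by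
    apply b.repr.injective
    ext i
    rw [← Algebra.leftMulMatrix_mulVec_repr, hx]
    have h4 := congrFun (congrFun h2 i) ()
    rw [Matrix.mul_apply] at h4
    rw [Matrix.mulVec, dotProduct]
    simp only [hx]
    exact h4
  apply Units.ext
  apply mul_right_cancel₀ hx0
  rw [h3, Units.val_one, one_mul]

theorem exists_frob (hF : Fintype.card F = 2) {m i : ℕ} (hi : 2 ≤ i) (him : i + 1 ≤ m) :
    ∃ (Q : Subgroup (PL F m)) (y : PL F m), IsPGroup 2 Q ∧ Q ≠ ⊥ ∧ orderOf y = 2 ^ i - 1 ∧ (∀ q ∈ Q, y * q * y⁻¹ ∈ Q) ∧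
      ∀ j : ℕ, 0 < j → j < 2 ^ i - 1 → ∀ q ∈ Q, y ^ j * q = q * y ^ j → q = 1 := by
  classical
  have hchar := charTwo hF
  have hf2 : Fact (Nat.Prime 2) := ⟨Nat.prime_two⟩
  have hne : NeZero i := ⟨by omega⟩
  have hfin : Finite (FiniteField.Extension F 2 i) := inferInstance
  have hcard : Nat.card (FiniteField.Extension F 2 i)ˣ = 2 ^ i - 1 := by
    rw [Nat.card_units, FiniteField.natCard_extension, Nat.card_eq_fintype_card, hF]
  obtain ⟨z, hz⟩ := IsCyclic.exists_ofOrder_eq_natCard (α := (FiniteField.Extension F 2 i)ˣ)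
  rw [hcard] at hz
  let b : Module.Basis (Fin i) F (FiniteField.Extension F 2 i) :=
    Module.finBasisOfFinrankEq _ _ (FiniteField.finrank_extension F 2 i)
  obtain ⟨k, rfl⟩ : ∃ k, m = i + 1 + k := ⟨m - (i + 1), by omega⟩
  let e : (Fin i ⊕ Unit) ⊕ Fin k ≃ Fin (i + 1 + k) := Fintype.equivFinOfCardEq (by simp)
  obtain ⟨f, hf⟩ : ∃ f : SpecialLinearGroup (Fin i ⊕ Unit) F →* PL F (i + 1 + k), Function.Injective f :=
    ⟨(pr F _).comp ((re e).comp emb), (pr_injective hF _).comp ((re_injective e).comp emb_injective)⟩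
  refine ⟨(f.comp (thom (F := F) (N := i))).range, f (mhom b z), ?_, ?_, ?_, ?_, ?_⟩
  · have hft : Function.Injective (f.comp (thom (F := F) (N := i))) := hf.comp thom_injective
    apply IsPGroup.of_card (n := i)
    rw [← Nat.card_congr (MonoidHom.ofInjective hft).toEquiv]
    change Nat.card (Fin i → Unit → F) = _
    rw [Nat.card_pi]
    simp [hF]
  · intro h
    have h1 : f.comp (thom (F := F) (N := i)) (Multiplicative.ofAdd (fun _ _ => 1)) ∈
        (f.comp (thom (F := F) (N := i))).range := ⟨_, rfl⟩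
    rw [h, Subgroup.mem_bot, MonoidHom.comp_apply, map_eq_one_iff _ hf, map_eq_one_iff _ thom_injective] at h1
    have h2 : (fun _ _ => (1 : F) : Matrix (Fin i) Unit F) = 0 := h1
    have h3 := congrFun (congrFun h2 ⟨0, by omega⟩) ()
    simp at h3
  · rw [orderOf_injective _ hf, orderOf_injective _ (mhom_injective b), hz]
  · rintro _ ⟨v, rfl⟩
    have h1 := congrArg f (mhom_mul_thom b z v.toAdd)
    rw [ofAdd_toAdd, map_mul, map_mul, map_inv] at h1
    exact ⟨_, h1.symm⟩
  · rintro j hj hji _ ⟨v, rfl⟩ hc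
    rw [MonoidHom.comp_apply, ← map_pow, ← map_mul, ← map_mul] at hc
    have hc := hf hc
    rw [← map_pow] at hc
    by_contra hv
    have hv0 : v.toAdd ≠ 0 := by
      intro h
      apply hv
      have : v = 1 := h
      rw [this, map_one]
    have h1 := eq_one_of_comm b hF (z ^ j) v.toAdd hv0 hc
    have h2 := Nat.le_of_dvd hj (orderOf_dvd_of_pow_eq_one h1)
    rw [hz] at h2
    omega

end Cfsg.Agent.H421.DPTwo
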