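import Cfsg.Agent.ClassicalGeometry.AutPSL.Main
import Cfsg.Agent.H421.Eleven

/-!
# The automorphisms of `PSL_n(3)` (helper421)

`c A` : conjugation by `A ∈ GL_n(3)`; `io` : inverse transpose.  Every automorphism is `c A` or `c A * io`.
-/

set_option autoImplicit false

namespace Cfsg.Agent.H421.AutL

open Matrix
open Cfsg.Agent.ClassicalGeometry.AutPSL
open Cfsg.Agent.ClassicalGeometry.AutPSL.Root (pr pr_surjective)

variable {n : ℕ}

/-- `GL_n(3)` -/
abbrev Gn (n : ℕ) := GL (Fin n) (ZMod 3)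
/-- `SL_n(3)` -/
abbrev Sn (n : ℕ) := Matrix.SpecialLinearGroup (Fin n) (ZMod 3)
/-- `PSL_n(3)` -/
abbrev Ln (n : ℕ) := Matrix.ProjectiveSpecialLinearGroup (Fin n) (ZMod 3)

/-- conjugation by an element of `GL` -/
def c : Gn n →* MulAut (Ln n) := (Auto.lift).comp Auto.cj

/-- the graph automorphism -/
def io : MulAut (Ln n) := Auto.lift Auto.itr

theorem io_mul_io : (io : MulAut (Ln n)) * io = 1 := by
  rw [io, ← map_mul, Auto.itr_mul_itr, map_one]

theorem io_inv : (io : MulAut (Ln n))⁻¹ = io := inv_eq_of_mul_eq_one_left io_mul_io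

/-- the transpose of the inverse -/
def tinv (A : Gn n) : Gn n where
  val := ((A⁻¹ : Gn n) : Matrix (Fin n) (Fin n) (ZMod 3))ᵀ
  inv := (A : Matrix (Fin n) (Fin n) (ZMod 3))ᵀ
  val_inv := by rw [← transpose_mul, ← Units.val_mul, mul_inv_cancel, Units.val_one, transpose_one]
  inv_val := by rw [← transpose_mul, ← Units.val_mul, inv_mul_cancel, Units.val_one, transpose_one]

/-- the determinant as an element of `ZMod 3` -/
def dt (A : Gn n) : ZMod 3 := (A : Matrix (Fin n) (Fin n) (ZMod 3)).det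

theorem dt_mul (A B : Gn n) : dt (A * B) = dt A * dt B := by
  rw [dt, Units.val_mul, det_mul]; rfl

theorem dt_one : dt (1 : Gn n) = 1 := by rw [dt, Units.val_one, det_one]

theorem dt_ne (A : Gn n) : dt A ≠ 0 := by
  intro h
  have := dt_mul A A⁻¹
  rw [mul_inv_cancel, dt_one, h, zero_mul] at this
  exact one_ne_zero this

theorem dt_cases (A : Gn n) : dt A = 1 ∨ dt A = -1 := by
  have : ∀ x : ZMod 3, x ≠ 0 → x = 1 ∨ x = -1 := by decide
  exact this _ (dt_ne A)

theorem dt_inv (A : Gn n) : dt A⁻¹ = dt A := by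
  have h1 := dt_mul A A⁻¹
  rw [mul_inv_cancel, dt_one] at h1
  have : ∀ x y : ZMod 3, 1 = x * y → y = x := by decide
  exact this _ _ h1

theorem dt_tinv (A : Gn n) : dt (tinv A) = dt A := by
  rw [dt, tinv]
  change (((A⁻¹ : Gn n) : Matrix (Fin n) (Fin n) (ZMod 3))ᵀ).det = _
  rw [det_transpose]
  exact dt_inv A

theorem dt_sq (A : Gn n) : dt A * dt A = 1 := by
  have : ∀ x : ZMod 3, x ≠ 0 → x * x = 1 := by decide
  exact this _ (dt_ne A)

theorem io_mul_c (A : Gn n) : io * c A = c (tinv A) * io := by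
  have h : (Auto.itr * Auto.cj A : MulAut (Sn n)) = Auto.cj (tinv A) * Auto.itr := by
    apply MulEquiv.ext
    intro g
    have h1 : (Auto.cj A g)⁻¹ = Auto.cj A g⁻¹ := (map_inv _ _).symm
    apply Subtype.ext
    change ((((Auto.cj A g)⁻¹ : Sn n)) : Matrix (Fin n) (Fin n) (ZMod 3))ᵀ = _
    rw [h1, Auto.coe_cj, transpose_mul, transpose_mul]
    change _ = ((A⁻¹ : Gn n) : Matrix (Fin n) (Fin n) (ZMod 3))ᵀ * ((g⁻¹ : Sn n) : Matrix (Fin n) (Fin n) (ZMod 3))ᵀ *
      (A : Matrix (Fin n) (Fin n) (ZMod 3))ᵀ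
    rw [mul_assoc]
  rw [io, c, MonoidHom.comp_apply, MonoidHom.comp_apply, ← map_mul, h, map_mul]

theorem form (hn : 3 ≤ n) (α : MulAut (Ln n)) : (∃ A, α = c A) ∨ (∃ A, α = c A * io) := by
  have : Fact (Nat.Prime 3) := ⟨by norm_num⟩
  rcases Main.surj_three 3 hn α with ⟨A, σ, h⟩ | ⟨A, σ, h⟩
  · refine Or.inl ⟨A, ?_⟩
    rw [h, Subsingleton.elim σ (RingEquiv.refl _)]
    rw [show (Auto.fld (RingEquiv.refl (ZMod 3)) : MulAut (Sn n)) = 1 from map_one Auto.fld, mul_one]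
    rfl
  · refine Or.inr ⟨A, ?_⟩
    rw [h, Subsingleton.elim σ (RingEquiv.refl _)]
    rw [show (Auto.fld (RingEquiv.refl (ZMod 3)) : MulAut (Sn n)) = 1 from map_one Auto.fld, mul_one, map_mul]
    rfl

theorem c_eq_one (hn : 3 ≤ n) {A : Gn n} (h : c A = 1) : ∃ r : ZMod 3, scalar (Fin n) r = (A : Matrix (Fin n) (Fin n) (ZMod 3)) := by
  have : Nontrivial (Fin n) := Fin.nontrivial_iff_two_le.2 (by omega)
  have := Main.injective_aux (C := A) (σ := (1 : ZMod 3 ≃+* ZMod 3)) (τ := 1) (by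
    rw [map_one Auto.fld, mul_one, map_one]; exact h)
  exact this.1

theorem c_mul_io_ne (hn : 3 ≤ n) {A B : Gn n} : c A * io ≠ c B := by
  intro h
  refine Main.not_graph (ι := Fin n) (F := ZMod 3) (by simpa using hn) (C := B⁻¹ * A) (σ := 1) (τ := 1) ?_
  rw [map_one Auto.fld, mul_one, map_one, map_mul, map_mul, map_mul]
  change c B⁻¹ * c A * io = 1
  rw [mul_assoc, h, ← map_mul, inv_mul_cancel, map_one]

theorem conj_pr (x : Sn n) : MulAut.conj (pr x : Ln n) = c (Matrix.SpecialLinearGroup.toGL x) := by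
  apply MulEquiv.ext
  intro y
  obtain ⟨y, rfl⟩ := pr_surjective y
  rw [MulAut.conj_apply, ← map_mul, ← map_inv, ← map_mul]
  change _ = pr (Auto.cj _ y)
  congr 1

theorem c_of_det {A : Gn n} (h : dt A = 1) : ∃ x : Sn n, c A = MulAut.conj (pr x : Ln n) := by
  have h' : (A : Matrix (Fin n) (Fin n) (ZMod 3)).det = 1 := h
  let x : Sn n := ⟨A, h'⟩
  have hx : Matrix.SpecialLinearGroup.toGL x = A := Units.ext rfl
  exact ⟨x, by rw [conj_pr, hx]⟩

theorem dt_toGL (x : Sn n) : dt (Matrix.SpecialLinearGroup.toGL x) = 1 := x.2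

/-- a product of automorphisms of the second kind -/
theorem mul_mix (A B : Gn n) : c A * io * (c B * io) = c (A * tinv B) := by
  rw [mul_assoc, ← mul_assoc io, io_mul_c, mul_assoc (c (tinv B)), io_mul_io, mul_one, ← map_mul]

theorem mul_mix' (A B : Gn n) : c A * io * c B = c (A * tinv B) * io := by
  rw [mul_assoc, io_mul_c, ← mul_assoc, ← map_mul]

theorem inv_mix (A : Gn n) : (c A * io)⁻¹ = c (tinv A⁻¹) * io := by
  rw [_root_.mul_inv_rev, io_inv, ← map_inv, io_mul_c]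

/-- powers of automorphisms of the second kind -/
theorem pow_mix (A : Gn n) (k : ℕ) : (∃ B, (c A * io) ^ (2 * k) = c B) ∧ (∃ B, (c A * io) ^ (2 * k + 1) = c B * io) := by
  induction k with
  | zero => exact ⟨⟨1, by rw [Nat.mul_zero, pow_zero, map_one]⟩, ⟨A, by rw [Nat.mul_zero, zero_add, pow_one]⟩⟩
  | succ k ih =>
    obtain ⟨⟨B, hB⟩, ⟨C, hC⟩⟩ := ih
    have h1 : ∃ B, (c A * io) ^ (2 * (k + 1)) = c B := ⟨C * tinv A, by
      rw [show 2 * (k + 1) = 2 * k + 1 + 1 by ring, pow_succ, hC, mul_mix]⟩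
    obtain ⟨D, hD⟩ := h1
    exact ⟨⟨D, hD⟩, ⟨D * A, by rw [pow_succ, hD, map_mul, mul_assoc]⟩⟩

/-- an automorphism of odd order is of the first kind -/
theorem form_of_odd (hn : 3 ≤ n) {α : MulAut (Ln n)} {m : ℕ} (hm : Odd m) (h : α ^ m = 1) : ∃ A, α = c A := by
  rcases form hn α with h1 | ⟨A, rfl⟩
  · exact h1
  · exfalso
    obtain ⟨k, rfl⟩ := hm
    obtain ⟨B, hB⟩ := (pow_mix A k).2
    rw [h, ← map_one (c (n := n))] at hB
    exact c_mul_io_ne hn hB.symm

/-- the kernel of `SL → PSL` -/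
theorem eq_of_pr_eq {x y : Sn n} (h : (pr x : Ln n) = pr y) : ∃ s : ZMod 3, (y : Matrix (Fin n) (Fin n) (ZMod 3)) = s • (x : Matrix (Fin n) (Fin n) (ZMod 3)) :=
  Root.exists_smul_of_pr_eq h

theorem pr_one {x : Sn n} (h : (pr x : Ln n) = 1) : (x : Matrix (Fin n) (Fin n) (ZMod 3)) = 1 ∨
    (x : Matrix (Fin n) (Fin n) (ZMod 3)) = -1 := by
  obtain ⟨s, hs⟩ := eq_of_pr_eq (x := 1) (y := x) (by rw [h, map_one])
  rw [Matrix.SpecialLinearGroup.coe_one] at hs
  have h3 : ∀ s : ZMod 3, s = 0 ∨ s = 1 ∨ s = -1 := by decide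
  rcases h3 s with rfl | rfl | rfl
  · left
    have h1 : (x : Matrix (Fin n) (Fin n) (ZMod 3)).det = 1 := x.2
    rw [hs, zero_smul] at h1 ⊢
    rcases Nat.eq_zero_or_pos n with rfl | hn
    · exact Subsingleton.elim _ _
    · have : Nonempty (Fin n) := ⟨⟨0, hn⟩⟩
      rw [det_zero] at h1
      exact absurd h1 zero_ne_one
  · left; rw [hs, one_smul]
  · right; rw [hs, neg_smul, one_smul]

/-- lifting an element of order `m` coprime to 2 … in a form good for 11 -/
theorem exists_lift {l : Ln n} {m k : ℕ} (hm : l ^ m = 1) (hk : Even k) (hlk : l ^ k = l) :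
    ∃ y : Sn n, (pr y : Ln n) = l ∧ y ^ m = 1 := by
  obtain ⟨x, rfl⟩ := pr_surjective l
  refine ⟨x ^ k, by rw [map_pow, hlk], ?_⟩
  rw [← map_pow] at hm
  rw [← pow_mul, mul_comm, pow_mul]
  apply Subtype.ext
  rw [Matrix.SpecialLinearGroup.coe_pow, Matrix.SpecialLinearGroup.coe_one]
  rcases pr_one hm with h | h
  · rw [h, one_pow]
  · rw [h, hk.neg_one_pow]

theorem not_fixed (hn9 : n ≤ 9) {A : Gn n} {l : Ln n} (h11 : l ^ 11 = 1) (h1 : l ≠ 1)
    (h : (c A * io : MulAut (Ln n)) l = l) : False := by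
  obtain ⟨y, rfl, hy⟩ := exists_lift h11 (k := 12) (by decide) (by rw [pow_succ, h11, one_mul])
  have h2 : (pr (Auto.cj A (Auto.itr y)) : Ln n) = pr y := h
  obtain ⟨s, hs⟩ := eq_of_pr_eq h2
  have hiy : y⁻¹ = y ^ 10 := by
    rw [inv_eq_iff_mul_eq_one, ← pow_succ', hy]
  have hy' : (y : Matrix (Fin n) (Fin n) (ZMod 3)) ^ 11 = 1 := by
    rw [← Matrix.SpecialLinearGroup.coe_pow, hy, Matrix.SpecialLinearGroup.coe_one]
  have hne : (y : Matrix (Fin n) (Fin n) (ZMod 3)) ≠ 1 := by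
    intro h0
    apply h1
    rw [show y = 1 from Subtype.ext h0, map_one]
  have hz : (Auto.cj A (Auto.itr y)) ^ 11 = 1 := by
    rw [← map_pow, ← map_pow, hy, map_one, map_one]
  have h3 : s ^ 11 • (1 : Matrix (Fin n) (Fin n) (ZMod 3)) = 1 := by
    have : (y : Matrix (Fin n) (Fin n) (ZMod 3)) ^ 11 =
        (s • (Auto.cj A (Auto.itr y) : Matrix (Fin n) (Fin n) (ZMod 3))) ^ 11 := by rw [← hs]
    rw [smul_pow, hy', ← Matrix.SpecialLinearGroup.coe_pow, hz, Matrix.SpecialLinearGroup.coe_one] at this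
    exact this.symm
  have hs1 : s = 1 := by
    rcases Nat.eq_zero_or_pos n with rfl | hn
    · exact absurd (Subsingleton.elim _ _) hne
    · have := congrFun (congrFun h3 ⟨0, hn⟩) ⟨0, hn⟩
      rw [Matrix.smul_apply, Matrix.one_apply_eq, smul_eq_mul, mul_one] at this
      have h4 : ∀ s : ZMod 3, s ^ 11 = 1 → s = 1 := by decide
      exact h4 s this
  rw [hs1, one_smul, Auto.coe_cj, Auto.coe_itr, hiy, Matrix.SpecialLinearGroup.coe_pow] at hs
  refine Eleven.not_contragredient hn9 (Y := (y : Matrix (Fin n) (Fin n) (ZMod 3)))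
    (M := (A : Matrix (Fin n) (Fin n) (ZMod 3))) (dt_ne A) hy' hne ?_
  conv_rhs => rw [hs]
  rw [mul_assoc _ ((A⁻¹ : Gn n) : Matrix (Fin n) (Fin n) (ZMod 3)), ← Units.val_mul, inv_mul_cancel, Units.val_one,
    mul_one]

/-- no elements of order 22 in `PSL_n(3)` -/
theorem no22_aux (H : ∀ U Y : Sn n, Y ^ 11 = 1 → Y ≠ 1 → U * Y = Y * U →
    ((U : Matrix (Fin n) (Fin n) (ZMod 3)) * U = 1 ∨ (U : Matrix (Fin n) (Fin n) (ZMod 3)) * U = -1) →
    ((U : Matrix (Fin n) (Fin n) (ZMod 3)) = 1 ∨ (U : Matrix (Fin n) (Fin n) (ZMod 3)) = -1)) (l : Ln n) :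
    orderOf l ≠ 22 := by
  intro hl
  obtain ⟨x, rfl⟩ := pr_surjective l
  have h22 : (pr (x ^ 22) : Ln n) = 1 := by rw [map_pow, ← hl, pow_orderOf_eq_one]
  have h11 : (pr (x ^ 11) : Ln n) ≠ 1 := by
    rw [map_pow]
    intro h
    have := orderOf_dvd_of_pow_eq_one h
    rw [hl] at this
    omega
  have h24 : (pr (x ^ 24) : Ln n) ≠ 1 := by
    rw [map_pow]
    intro h
    have := orderOf_dvd_of_pow_eq_one h
    rw [hl] at this
    omega
  have hU := H (x ^ 11) (x ^ 24) ?_ ?_ ?_ ?_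
  · apply h11
    rcases hU with h | h
    · rw [show x ^ 11 = 1 from Subtype.ext h, map_one]
    · have h1 := Root.pr_eq_of_smul (x := 1) (y := x ^ 11) (c := -1) (by
        rw [h, Matrix.SpecialLinearGroup.coe_one, neg_smul, one_smul])
      rw [← h1, map_one]
  · rw [← pow_mul, show 24 * 11 = 22 * 12 by norm_num, pow_mul]
    apply Subtype.ext
    rw [Matrix.SpecialLinearGroup.coe_pow, Matrix.SpecialLinearGroup.coe_one]
    rcases pr_one h22 with h | h
    · rw [h, one_pow]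
    · rw [h]
      exact Even.neg_one_pow (by decide)
  · intro h
    exact h24 (by rw [h, map_one])
  · rw [← pow_add, ← pow_add]
  · rw [← Matrix.SpecialLinearGroup.coe_mul, ← pow_add]
    exact pr_one h22

theorem no22_five (l : Ln 5) : orderOf l ≠ 22 := by
  refine no22_aux (fun U Y hY hne hc hU => ?_) l
  refine Eleven.commuting_five (U := U) (Y := Y) ?_ ?_ ?_ hU
  · rw [← Matrix.SpecialLinearGroup.coe_pow, hY, Matrix.SpecialLinearGroup.coe_one]
  · exact fun h => hne (Subtype.ext h)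
  · rw [← Matrix.SpecialLinearGroup.coe_mul, hc, Matrix.SpecialLinearGroup.coe_mul]

theorem no22_six (l : Ln 6) : orderOf l ≠ 22 := by
  refine no22_aux (fun U Y hY hne hc hU => ?_) l
  refine Eleven.commuting_six (U := U) (Y := Y) ?_ ?_ ?_ hU ?_
  · rw [← Matrix.SpecialLinearGroup.coe_pow, hY, Matrix.SpecialLinearGroup.coe_one]
  · exact fun h => hne (Subtype.ext h)
  · rw [← Matrix.SpecialLinearGroup.coe_mul, hc, Matrix.SpecialLinearGroup.coe_mul]
  · exact U.2

end Cfsg.Agent.H421.AutL
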