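import Mathlib

/-!
# Affine matrices (helper421)

`blk v B = [[1, 0], [v, B]]`, multiplication and determinant.
-/

set_option autoImplicit false

namespace Cfsg.Agent.H421.Blk

open Matrix

variable {R : Type*} [CommRing R] {n : ℕ}

/-- the matrix `[[1, 0], [v, B]]` -/
def blk (v : Fin n → R) (B : Matrix (Fin n) (Fin n) R) : Matrix (Fin (n + 1)) (Fin (n + 1)) R :=
  Matrix.of fun i j => Fin.cases (motive := fun _ => R) (Fin.cases (motive := fun _ => R) 1 (fun _ => 0) j)
    (fun i' => Fin.cases (motive := fun _ => R) (v i') (fun j' => B i' j') j) i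

@[simp] theorem blk_zero_zero (v : Fin n → R) (B : Matrix (Fin n) (Fin n) R) : blk v B 0 0 = 1 := rfl
@[simp] theorem blk_zero_succ (v : Fin n → R) (B : Matrix (Fin n) (Fin n) R) (j : Fin n) : blk v B 0 j.succ = 0 := rfl
@[simp] theorem blk_succ_zero (v : Fin n → R) (B : Matrix (Fin n) (Fin n) R) (i : Fin n) : blk v B i.succ 0 = v i := rfl
@[simp] theorem blk_succ_succ (v : Fin n → R) (B : Matrix (Fin n) (Fin n) R) (i j : Fin n) :
    blk v B i.succ j.succ = B i j := rfl

theorem blk_mul (v w : Fin n → R) (B C : Matrix (Fin n) (Fin n) R) :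
    blk v B * blk w C = blk (v + B *ᵥ w) (B * C) := by
  ext i j
  refine Fin.cases ?_ (fun i => ?_) i <;> refine Fin.cases ?_ (fun j => ?_) j
  · rw [Matrix.mul_apply, Fin.sum_univ_succ]
    simp
  · rw [Matrix.mul_apply, Fin.sum_univ_succ]
    simp
  · rw [Matrix.mul_apply, Fin.sum_univ_succ]
    simp [Matrix.mulVec, dotProduct]
  · rw [Matrix.mul_apply, Fin.sum_univ_succ]
    simp [Matrix.mul_apply]

theorem blk_one : blk (0 : Fin n → R) (1 : Matrix (Fin n) (Fin n) R) = 1 := by
  ext i j
  refine Fin.cases ?_ (fun i => ?_) i <;> refine Fin.cases ?_ (fun j => ?_) j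
  · simp
  · rw [blk_zero_succ, Matrix.one_apply_ne]
    exact (Fin.succ_ne_zero j).symm
  · rw [blk_succ_zero, Matrix.one_apply_ne]
    · rfl
    · exact Fin.succ_ne_zero i
  · rw [blk_succ_succ, Matrix.one_apply, Matrix.one_apply]
    simp

theorem blk_pow (B : Matrix (Fin n) (Fin n) R) (k : ℕ) : blk 0 B ^ k = blk 0 (B ^ k) := by
  induction k with
  | zero => rw [pow_zero, pow_zero, blk_one]
  | succ k ih => rw [pow_succ, ih, blk_mul, pow_succ]; simp

theorem blk_inj {v w : Fin n → R} {B C : Matrix (Fin n) (Fin n) R} (h : blk v B = blk w C) : v = w ∧ B = C := by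
  constructor
  · ext i
    have := congrFun (congrFun h i.succ) 0
    simpa using this
  · ext i j
    have := congrFun (congrFun h i.succ) j.succ
    simpa using this

theorem det_blk (v : Fin n → R) (B : Matrix (Fin n) (Fin n) R) : (blk v B).det = B.det := by
  rw [Matrix.det_succ_row_zero, Fin.sum_univ_succ]
  simp only [blk_zero_zero, blk_zero_succ]
  have h : (blk v B).submatrix Fin.succ (Fin.succAbove 0) = B := by
    ext i j
    rw [Matrix.submatrix_apply, Fin.succAbove_zero, blk_succ_succ]
  rw [h]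
  simp

/-- the affine element of `SL` -/
def slBlk (v : Fin n → R) (B : Matrix.SpecialLinearGroup (Fin n) R) : Matrix.SpecialLinearGroup (Fin (n + 1)) R :=
  ⟨blk v B.1, by rw [det_blk, B.2]⟩

theorem slBlk_mul (v w : Fin n → R) (B C : Matrix.SpecialLinearGroup (Fin n) R) :
    slBlk v B * slBlk w C = slBlk (v + B.1 *ᵥ w) (B * C) :=
  Subtype.ext (by
    rw [Matrix.SpecialLinearGroup.coe_mul]
    exact blk_mul _ _ _ _)

theorem slBlk_one : slBlk (0 : Fin n → R) (1 : Matrix.SpecialLinearGroup (Fin n) R) = 1 :=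
  Subtype.ext blk_one

theorem slBlk_pow (B : Matrix.SpecialLinearGroup (Fin n) R) (k : ℕ) : slBlk 0 B ^ k = slBlk 0 (B ^ k) := by
  induction k with
  | zero => rw [pow_zero, pow_zero, slBlk_one]
  | succ k ih => rw [pow_succ, ih, slBlk_mul, pow_succ]; simp

theorem slBlk_inj {v w : Fin n → R} {B C : Matrix.SpecialLinearGroup (Fin n) R} (h : slBlk v B = slBlk w C) :
    v = w ∧ B = C := by
  obtain ⟨h1, h2⟩ := blk_inj (congrArg Subtype.val h)
  exact ⟨h1, Subtype.ext h2⟩

/-- translations -/
def transl : Multiplicative (Fin n → R) →* Matrix.SpecialLinearGroup (Fin (n + 1)) R where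
  toFun v := slBlk v.toAdd 1
  map_one' := slBlk_one
  map_mul' v w := by
    rw [slBlk_mul]
    simp [Matrix.one_mulVec]

theorem transl_injective : Function.Injective (transl (R := R) (n := n)) := fun v w h => by
  have := (slBlk_inj h).1
  exact this

end Cfsg.Agent.H421.Blk
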