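import Cfsg.Agent.H421.AutL
import Cfsg.Agent.H421.Blk
import Cfsg.Agent.H421.Rows

/-!
# Groups between `PSL₆(3)` and its automorphism group (helper421)

`Hd d` (`d = ± 1`): the two extensions of `PSL₆(3)` of degree 2 by graph automorphisms.
-/

set_option autoImplicit false

namespace Cfsg.Agent.H421.AutSix

open Matrix
open Cfsg.Agent.ClassicalGeometry.AutPSL
open Cfsg.Agent.ClassicalGeometry.AutPSL.Root (pr pr_surjective)
open Cfsg.Agent.H421.AutL Cfsg.Agent.H421.Blk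

theorem dt_of_c_eq {A B : Gn 6} (h : c A = c B) : dt A = dt B := by
  have h1 : c (A * B⁻¹) = 1 := by rw [map_mul, map_inv, h, mul_inv_cancel]
  obtain ⟨r, hr⟩ := c_eq_one (by norm_num) h1
  have h2 : dt (A * B⁻¹) = r ^ 6 := by
    rw [dt, ← hr, scalar_apply, det_diagonal, Finset.prod_const, Finset.card_univ, Fintype.card_fin]
  have h3 := dt_cases (A * B⁻¹)
  rw [h2] at h3
  have h4 : ∀ r : ZMod 3, (r ^ 6 = 1 ∨ r ^ 6 = -1) → r ^ 6 = 1 := by decide
  have h5 := h4 r h3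
  rw [dt_mul, dt_inv, h5] at h2
  have h6 : ∀ x y : ZMod 3, x * y = 1 → x = y := by decide
  exact h6 _ _ h2

/-- the extension of degree 2 by a graph automorphism -/
def Hd (d : ZMod 3) : Subgroup (MulAut (Ln 6)) where
  carrier := {α | (∃ A : Gn 6, dt A = 1 ∧ α = c A) ∨ (∃ A : Gn 6, dt A = d ∧ α = c A * io)}
  mul_mem' := by
    rintro _ _ (⟨A, hA, rfl⟩ | ⟨A, hA, rfl⟩) (⟨B, hB, rfl⟩ | ⟨B, hB, rfl⟩)
    · exact Or.inl ⟨A * B, by rw [dt_mul, hA, hB, mul_one], by rw [map_mul]⟩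
    · exact Or.inr ⟨A * B, by rw [dt_mul, hA, hB, one_mul], by rw [map_mul, mul_assoc]⟩
    · exact Or.inr ⟨A * tinv B, by rw [dt_mul, dt_tinv, hA, hB, mul_one], mul_mix' A B⟩
    · exact Or.inl ⟨A * tinv B, by rw [dt_mul, dt_tinv, hA, ← hB, dt_sq], mul_mix A B⟩
  one_mem' := Or.inl ⟨1, dt_one, (map_one _).symm⟩
  inv_mem' := by
    rintro _ (⟨A, hA, rfl⟩ | ⟨A, hA, rfl⟩)
    · exact Or.inl ⟨A⁻¹, by rw [dt_inv, hA], by rw [map_inv]⟩
    · exact Or.inr ⟨tinv A⁻¹, by rw [dt_tinv, dt_inv, hA], inv_mix A⟩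

theorem mem_Hd {d : ZMod 3} {α : MulAut (Ln 6)} :
    α ∈ Hd d ↔ (∃ A : Gn 6, dt A = 1 ∧ α = c A) ∨ (∃ A : Gn 6, dt A = d ∧ α = c A * io) := Iff.rfl

theorem conj_mem_Hd (d : ZMod 3) (l : Ln 6) : MulAut.conj l ∈ Hd d := by
  obtain ⟨x, rfl⟩ := pr_surjective l
  exact Or.inl ⟨_, dt_toGL x, conj_pr x⟩

theorem Hd_normal (d : ZMod 3) {g α : MulAut (Ln 6)} (h : α ∈ Hd d) : g * α * g⁻¹ ∈ Hd d := by
  rcases form (by norm_num) g with ⟨B, rfl⟩ | ⟨B, rfl⟩ <;> rcases h with ⟨A, hA, rfl⟩ | ⟨A, hA, rfl⟩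
  · refine Or.inl ⟨B * A * B⁻¹, ?_, by rw [map_mul, map_mul, map_inv]⟩
    rw [dt_mul, dt_mul, dt_inv, hA, mul_one, dt_sq]
  · refine Or.inr ⟨B * A * tinv B⁻¹, ?_, ?_⟩
    · rw [dt_mul, dt_mul, dt_tinv, dt_inv, hA, mul_comm (dt B), mul_assoc, dt_sq, mul_one]
    · rw [← mul_assoc, ← map_mul, ← map_inv, mul_mix']
  · refine Or.inl ⟨B * tinv A * tinv (tinv B⁻¹), ?_, ?_⟩
    · rw [dt_mul, dt_mul, dt_tinv, dt_tinv, dt_tinv, dt_inv, hA, mul_one, dt_sq]
    · rw [mul_mix', inv_mix, mul_mix]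
  · refine Or.inr ⟨B * tinv A * tinv B⁻¹, ?_, ?_⟩
    · rw [dt_mul, dt_mul, dt_tinv, dt_tinv, dt_inv, hA, mul_comm (dt B), mul_assoc, dt_sq, mul_one]
    · rw [mul_mix, inv_mix, ← mul_assoc, ← map_mul]

/-- `-1` times an element of order 11, with a fixed vector -/
def Am : Matrix (Fin 6) (Fin 6) (ZMod 3) := blk 0 (-Rows.Y5)

theorem Am_pow : Am ^ 22 = 1 := by
  rw [Am, blk_pow, Even.neg_pow (by decide), show 22 = 11 * 2 by norm_num, pow_mul, Rows.Y5_pow, one_pow, blk_one]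

theorem det_Am : Am.det = -1 := by
  rw [Am, det_blk, det_neg, Rows.det_Y5, Fintype.card_fin]
  decide

/-- `Am` as an element of `GL` -/
def Ag : Gn 6 := Units.ofPowEqOne Am 22 Am_pow (by norm_num)

theorem dt_Ag : dt Ag = -1 := det_Am

theorem Ag_pow (k : ℕ) (hk : ∀ r : ZMod 3, scalar (Fin 6) r ≠ Am ^ k) : (c Ag : MulAut (Ln 6)) ^ k ≠ 1 := by
  rw [← map_pow]
  intro h
  obtain ⟨r, hr⟩ := c_eq_one (by norm_num) h
  apply hk r
  rw [hr, Units.val_pow_eq_pow_val]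
  rfl

theorem orderOf_cAg : orderOf (c Ag : MulAut (Ln 6)) = 22 := by
  apply orderOf_eq_of_pow_and_pow_div_prime (by norm_num)
  · rw [← map_pow, show Ag ^ 22 = 1 from Units.ext (by rw [Units.val_pow_eq_pow_val]; exact Am_pow), map_one]
  · intro p hp hd
    have h1 : p = 2 ∨ p = 11 := by
      rw [show 22 = 2 * 11 by norm_num, hp.dvd_mul] at hd
      rcases hd with h | h
      · exact Or.inl ((Nat.prime_dvd_prime_iff_eq hp (by norm_num)).1 h)
      · exact Or.inr ((Nat.prime_dvd_prime_iff_eq hp (by norm_num)).1 h)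
    rcases h1 with rfl | rfl
    · apply Ag_pow
      intro r h
      have h1 := congrFun (congrFun h 0) 0
      have h2 := congrFun (congrFun h (Fin.succ 0)) (Fin.succ 0)
      have h3 : (-Rows.Y5) ^ 11 = -1 := by rw [Odd.neg_pow (by decide), Rows.Y5_pow]
      rw [Am, show 22 / 2 = 11 by norm_num, blk_pow, h3] at h1 h2
      rw [blk_zero_zero, scalar_apply, diagonal_apply_eq] at h1
      rw [blk_succ_succ, scalar_apply, diagonal_apply_eq, Matrix.neg_apply, Matrix.one_apply_eq, h1] at h2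
      exact absurd h2 (by decide)
    · apply Ag_pow
      rw [show 22 / 11 = 2 by norm_num]
      decide +kernel

/-- a subgroup between `PSL₆(3)` and its automorphism group without elements of order 22 -/
theorem classify (R : Subgroup (MulAut (Ln 6))) (hI : ∀ l : Ln 6, MulAut.conj l ∈ R)
    (h22 : ∀ x ∈ R, orderOf x ≠ 22) :
    R = (MulAut.conj : Ln 6 →* MulAut (Ln 6)).range ∨ R = Hd 1 ∨ R = Hd (-1) := by
  have h1 : ∀ A : Gn 6, dt A = 1 → c A ∈ R := by
    intro A hA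
    obtain ⟨x, hx⟩ := c_of_det hA
    rw [hx]
    exact hI _
  have h2 : ∀ A : Gn 6, c A ∈ R → dt A = 1 := by
    intro A hA
    refine (dt_cases A).resolve_right fun h => h22 (c Ag) ?_ orderOf_cAg
    have h3 : c (Ag * A⁻¹) ∈ R := h1 _ (by rw [dt_mul, dt_inv, dt_Ag, h]; decide)
    have h4 := R.mul_mem h3 hA
    rwa [← map_mul, inv_mul_cancel_right] at h4
  by_cases h : ∃ A : Gn 6, c A * io ∈ R
  · right
    obtain ⟨A, hA⟩ := h
    have h3 : R = Hd (dt A) := by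
      apply le_antisymm
      · intro α hα
        rcases form (by norm_num) α with ⟨B, rfl⟩ | ⟨B, rfl⟩
        · exact Or.inl ⟨B, h2 B hα, rfl⟩
        · refine Or.inr ⟨B, ?_, rfl⟩
          have h4 := R.mul_mem hα (R.inv_mem hA)
          rw [inv_mix, mul_mix] at h4
          have h5 := h2 _ h4
          rw [dt_mul, dt_tinv, dt_tinv, dt_inv] at h5
          have h6 : ∀ x y : ZMod 3, x * y = 1 → x = y := by decide
          exact h6 _ _ h5
      · rintro α (⟨B, hB, rfl⟩ | ⟨B, hB, rfl⟩)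
        · exact h1 B hB
        · have h4 : c (B * A⁻¹) ∈ R := h1 _ (by rw [dt_mul, dt_inv, hB, dt_sq])
          have h5 := R.mul_mem h4 hA
          rwa [← mul_assoc, ← map_mul, inv_mul_cancel_right] at h5
    rcases dt_cases A with h4 | h4
    · exact Or.inl (by rw [h3, h4])
    · exact Or.inr (by rw [h3, h4])
  · left
    apply le_antisymm
    · intro α hα
      rcases form (by norm_num) α with ⟨B, rfl⟩ | ⟨B, rfl⟩
      · obtain ⟨x, hx⟩ := c_of_det (h2 B hα)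
        exact ⟨_, hx.symm⟩
      · exact absurd ⟨B, hα⟩ h
    · rintro _ ⟨l, rfl⟩
      exact hI l

theorem not_range (A : Gn 6) (l : Ln 6) : c A * io ≠ MulAut.conj l := by
  obtain ⟨x, rfl⟩ := pr_surjective l
  rw [conj_pr]
  exact c_mul_io_ne (by norm_num)

theorem Ag_mem : c Ag * io ∈ Hd (-1) := Or.inr ⟨Ag, dt_Ag, rfl⟩

theorem one_mem : c 1 * io ∈ Hd 1 := Or.inr ⟨1, dt_one, rfl⟩

theorem exists_outer {d : ZMod 3} (hd : d = 1 ∨ d = -1) : ∃ A : Gn 6, dt A = d ∧ c A * io ∈ Hd d := by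
  rcases hd with rfl | rfl
  · exact ⟨1, dt_one, one_mem⟩
  · exact ⟨Ag, dt_Ag, Ag_mem⟩

theorem not_mem_Hd {d : ZMod 3} {A : Gn 6} (h : dt A ≠ d) : c A * io ∉ Hd d := by
  rintro (⟨B, -, hB⟩ | ⟨B, hB, hB'⟩)
  · exact c_mul_io_ne (by norm_num) hB
  · have h1 : c A = c B := mul_right_cancel hB'
    exact h ((dt_of_c_eq h1).trans hB)

theorem mem_conj_of_odd {d : ZMod 3} {α : MulAut (Ln 6)} (hα : α ∈ Hd d) {m : ℕ} (hm : Odd m) (h : α ^ m = 1) :
    ∃ l : Ln 6, α = MulAut.conj l := by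
  obtain ⟨A, rfl⟩ := form_of_odd (by norm_num) hm h
  rcases hα with ⟨B, hB, hB'⟩ | ⟨B, -, hB'⟩
  · rw [hB']
    obtain ⟨x, hx⟩ := c_of_det hB
    exact ⟨_, hx⟩
  · exact absurd hB'.symm (c_mul_io_ne (by norm_num))

theorem inn_injective : Function.Injective (MulAut.conj : Ln 6 →* MulAut (Ln 6)) := by
  rw [injective_iff_map_eq_one]
  intro l hl
  obtain ⟨x, rfl⟩ := pr_surjective l
  rw [conj_pr] at hl
  obtain ⟨r, hr⟩ := c_eq_one (by norm_num) hl
  rw [Root.pr_eq_one_iff, Matrix.SpecialLinearGroup.mem_center_iff]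
  refine ⟨r, ?_, hr⟩
  have h1 : (scalar (Fin 6) r).det = 1 := by rw [hr]; exact x.2
  rw [scalar_apply, det_diagonal, Finset.prod_const, Finset.card_univ] at h1
  exact h1

theorem conj_map (α : MulAut (Ln 6)) (l : Ln 6) : MulAut.conj (α l) = α * MulAut.conj l * α⁻¹ := by
  apply MulEquiv.ext
  intro m
  rw [MulAut.mul_apply, MulAut.mul_apply, MulAut.conj_apply, MulAut.conj_apply, map_mul, map_mul, map_inv,
    MulAut.apply_inv_self]

/-- `PSL₆(3)` is not isomorphic to its extensions -/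
theorem Hd_not_L {d : ZMod 3} (hd : d = 1 ∨ d = -1) : ¬ Nonempty (Hd d ≃* Ln 6) := by
  rintro ⟨f⟩
  let g : Ln 6 → Ln 6 := fun l => f ⟨MulAut.conj l, conj_mem_Hd d l⟩
  have hg : Function.Injective g := by
    intro a b hab
    have h1 := f.injective hab
    exact inn_injective (congrArg Subtype.val h1)
  have hs : Function.Surjective g := Finite.surjective_of_injective hg
  obtain ⟨A, -, hA⟩ := exists_outer hd
  obtain ⟨l, hl⟩ := hs (f ⟨_, hA⟩)
  have h1 := f.injective hl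
  exact not_range A l (congrArg Subtype.val h1).symm

/-- the two extensions are not isomorphic -/
theorem Hd_not_Hd : ¬ Nonempty (Hd 1 ≃* Hd (-1)) := by
  rintro ⟨f⟩
  have hcub : ∀ x : Sn 6, ∃ l : Ln 6, (f ⟨MulAut.conj (pr x), conj_mem_Hd 1 _⟩ : MulAut (Ln 6)) = MulAut.conj l := by
    refine Cfsg.Agent.LieClassical.SLGen.transvection_induction _ ?_ ?_
    · intro i j hij t
      apply mem_conj_of_odd (Subtype.mem _) (m := 3) (by decide)
      have h3 : (Matrix.SpecialLinearGroup.transvection hij t : Sn 6) ^ 3 = 1 := by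
        apply Subtype.ext
        rw [Matrix.SpecialLinearGroup.coe_pow]
        change (1 + single i j t : Matrix (Fin 6) (Fin 6) (ZMod 3)) ^ 3 = 1
        have h4 : (single i j t : Matrix (Fin 6) (Fin 6) (ZMod 3)) * single i j t = 0 :=
          single_mul_single_of_ne _ _ _ _ hij.symm _
        have h5 : (1 + single i j t : Matrix (Fin 6) (Fin 6) (ZMod 3)) ^ 3 = 1 + 3 * single i j t +
            3 * (single i j t * single i j t) + (single i j t * single i j t) * single i j t := by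
          noncomm_ring
        rw [h5, h4, Eleven.three_mul, mul_zero, zero_mul, add_zero, add_zero, add_zero]
      rw [← Subgroup.coe_pow, ← map_pow]
      have h4 : (⟨MulAut.conj (pr (Matrix.SpecialLinearGroup.transvection hij t)), conj_mem_Hd 1 _⟩ : Hd 1) ^ 3 = 1 := by
        apply Subtype.ext
        rw [Subgroup.coe_pow]
        change (MulAut.conj (pr (Matrix.SpecialLinearGroup.transvection hij t))) ^ 3 = 1
        rw [← map_pow, ← map_pow, h3, map_one, map_one]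
      rw [h4, map_one]
      rfl
    · rintro x y ⟨l, hl⟩ ⟨m, hm⟩
      refine ⟨l * m, ?_⟩
      have h1 : (⟨MulAut.conj (pr (x * y)), conj_mem_Hd 1 _⟩ : Hd 1) =
          ⟨MulAut.conj (pr x), conj_mem_Hd 1 _⟩ * ⟨MulAut.conj (pr y), conj_mem_Hd 1 _⟩ := by
        apply Subtype.ext
        rw [Subgroup.coe_mul]
        change MulAut.conj (pr (x * y)) = MulAut.conj (pr x) * MulAut.conj (pr y)
        rw [map_mul, map_mul]
      rw [h1, map_mul, Subgroup.coe_mul, hl, hm, map_mul]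
  have hall : ∀ l : Ln 6, ∃ l' : Ln 6, (f ⟨MulAut.conj l, conj_mem_Hd 1 _⟩ : MulAut (Ln 6)) = MulAut.conj l' := by
    intro l
    obtain ⟨x, rfl⟩ := pr_surjective l
    exact hcub x
  choose φ hφ using hall
  let a : Ln 6 →* Ln 6 := MonoidHom.mk' φ (by
    intro x y
    apply inn_injective
    rw [map_mul, ← hφ, ← hφ, ← hφ, ← Subgroup.coe_mul, ← map_mul]
    congr 2
    apply Subtype.ext
    rw [Subgroup.coe_mul]
    change MulAut.conj (x * y) = MulAut.conj x * MulAut.conj y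
    rw [map_mul])
  have ha : Function.Injective a := by
    intro x y hxy
    have h1 : φ x = φ y := hxy
    have h2 : (f ⟨MulAut.conj x, conj_mem_Hd 1 _⟩) = (f ⟨MulAut.conj y, conj_mem_Hd 1 _⟩) := by
      apply Subtype.ext
      rw [hφ, hφ, h1]
    exact inn_injective (congrArg Subtype.val (f.injective h2))
  let e : MulAut (Ln 6) := MulEquiv.ofBijective a ((Finite.injective_iff_bijective).1 ha)
  have he : ∀ l, e l = φ l := fun l => rfl
  have hkey : ∀ h : Hd 1, (f h : MulAut (Ln 6)) * e = e * h := by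
    intro h
    apply MulEquiv.ext
    intro l
    rw [MulAut.mul_apply, MulAut.mul_apply, he, he]
    apply inn_injective
    rw [conj_map, ← hφ, ← hφ]
    have h1 : (⟨MulAut.conj ((h : MulAut (Ln 6)) l), conj_mem_Hd 1 _⟩ : Hd 1) =
        h * ⟨MulAut.conj l, conj_mem_Hd 1 _⟩ * h⁻¹ := by
      apply Subtype.ext
      rw [Subgroup.coe_mul, Subgroup.coe_mul, Subgroup.coe_inv]
      exact conj_map h l
    rw [h1, map_mul, map_mul, map_inv, Subgroup.coe_mul, Subgroup.coe_mul, Subgroup.coe_inv]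
  obtain ⟨h, hh⟩ := f.surjective ⟨_, Ag_mem⟩
  have h1 := hkey h
  rw [hh] at h1
  have h2 : c Ag * io = e * (h : MulAut (Ln 6)) * e⁻¹ := by
    rw [← h1, mul_inv_cancel_right]
  have h3 : c Ag * io ∈ Hd 1 := by
    rw [h2]
    exact Hd_normal 1 h.2
  refine not_mem_Hd (A := Ag) (d := 1) ?_ h3
  rw [dt_Ag]
  decide

/-! ### element orders -/

theorem dvd_pq {p q r : ℕ} (hp : p.Prime) (hq : q.Prime) (hr : r.Prime) (h : r ∣ p * q) : r = p ∨ r = q :=
  (hr.dvd_mul.1 h).imp (fun h => (Nat.prime_dvd_prime_iff_eq hr hp).1 h) (fun h => (Nat.prime_dvd_prime_iff_eq hr hq).1 h)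

theorem orderOf_pq {G : Type*} [Group G] {x : G} {p q : ℕ} (hp : p.Prime) (hq : q.Prime) (h : x ^ (p * q) = 1)
    (h1 : x ^ p ≠ 1) (h2 : x ^ q ≠ 1) : orderOf x = p * q := by
  refine orderOf_eq_of_pow_and_pow_div_prime (Nat.mul_pos hp.pos hq.pos) h fun r hr hd => ?_
  rcases dvd_pq hp hq hr hd with rfl | rfl
  · rwa [Nat.mul_div_cancel_left _ hp.pos]
  · rwa [Nat.mul_div_cancel _ hq.pos]

theorem pr_eq_one_of {x : Sn 6} (h : (x : Matrix (Fin 6) (Fin 6) (ZMod 3)) = 1 ∨ (x : Matrix (Fin 6) (Fin 6) (ZMod 3)) = -1) :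
    (pr x : Ln 6) = 1 := by
  rcases h with h | h
  · rw [show x = 1 from Subtype.ext h, map_one]
  · have h1 := Root.pr_eq_of_smul (x := 1) (y := x) (c := -1) (by
      rw [h, Matrix.SpecialLinearGroup.coe_one, neg_smul, one_smul])
    rw [← h1, map_one]

theorem order_sq {N : Matrix (Fin 6) (Fin 6) (ZMod 3)} {p q k : ℕ} (hp : p.Prime) (hq : q.Prime) (hk : 0 < k)
    (h : (N * N) ^ (k * (p * q)) = 1 ∨ (N * N) ^ (k * (p * q)) = -1)
    (h1 : (N * N) ^ (k * p) ≠ 1 ∧ (N * N) ^ (k * p) ≠ -1) (h2 : (N * N) ^ (k * q) ≠ 1 ∧ (N * N) ^ (k * q) ≠ -1) :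
    ∃ l : Ln 6, orderOf l = p * q := by
  have hd : (N * N).det = 1 := by
    have h0 : N.det ≠ 0 := by
      intro h0
      have h3 : ((N * N) ^ (k * (p * q))).det = 0 := by
        rw [det_pow, det_mul, h0, mul_zero, zero_pow]
        exact (Nat.mul_pos hk (Nat.mul_pos hp.pos hq.pos)).ne'
      rcases h with h | h
      · rw [h, det_one] at h3; exact one_ne_zero h3
      · rw [h, det_neg, det_one, Fintype.card_fin] at h3
        exact absurd h3 (by decide)
    rw [det_mul]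
    have : ∀ x : ZMod 3, x ≠ 0 → x * x = 1 := by decide
    exact this _ h0
  let x : Sn 6 := ⟨N * N, hd⟩
  have hx : ∀ j, ((x ^ j : Sn 6) : Matrix (Fin 6) (Fin 6) (ZMod 3)) = (N * N) ^ j := fun j => by
    rw [Matrix.SpecialLinearGroup.coe_pow]
  refine ⟨(pr x) ^ k, orderOf_pq hp hq ?_ ?_ ?_⟩
  · rw [← pow_mul, ← map_pow]
    apply pr_eq_one_of
    rw [hx]
    exact h
  · rw [← pow_mul, ← map_pow]
    intro h3
    have h4 := pr_one h3
    rw [hx] at h4
    exact h4.elim h1.1 h1.2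
  · rw [← pow_mul, ← map_pow]
    intro h3
    have h4 := pr_one h3
    rw [hx] at h4
    exact h4.elim h2.1 h2.2

/-- companion matrix of a primitive polynomial of degree 6 -/
def Cm : Matrix (Fin 6) (Fin 6) (ZMod 3) :=
  !![0, 0, 0, 0, 0, 1; 1, 0, 0, 0, 0, 0; 0, 1, 0, 0, 0, 0; 0, 0, 1, 0, 0, 0; 0, 0, 0, 1, 0, 0; 0, 0, 0, 0, 1, 2]

theorem Cm182 : (Cm * Cm) ^ 182 = -1 := by decide +kernel
theorem Cm91 : (Cm * Cm) ^ 91 ≠ 1 ∧ (Cm * Cm) ^ 91 ≠ -1 := by decide +kernel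
theorem Cm26 : (Cm * Cm) ^ 26 ≠ 1 ∧ (Cm * Cm) ^ 26 ≠ -1 := by decide +kernel
theorem Cm14 : (Cm * Cm) ^ 14 ≠ 1 ∧ (Cm * Cm) ^ 14 ≠ -1 := by decide +kernel

theorem order14 : ∃ l : Ln 6, orderOf l = 2 * 7 :=
  order_sq (N := Cm) (k := 13) (by norm_num) (by norm_num) (by norm_num) (Or.inr Cm182) Cm26 Cm91

theorem order26 : ∃ l : Ln 6, orderOf l = 2 * 13 :=
  order_sq (N := Cm) (k := 7) (by norm_num) (by norm_num) (by norm_num) (Or.inr Cm182) Cm14 Cm91

/-- a square root of an element of order 10 -/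
def N10 : Matrix (Fin 6) (Fin 6) (ZMod 3) :=
  !![0, 1, 0, 0, 0, 0; 2, 0, 0, 0, 0, 0; 0, 0, 0, 0, 0, 2; 0, 0, 1, 0, 0, 2; 0, 0, 0, 1, 0, 2; 0, 0, 0, 0, 1, 2]

theorem order10 : ∃ l : Ln 6, orderOf l = 2 * 5 :=
  order_sq (N := N10) (k := 1) (by norm_num) (by norm_num) (by norm_num) (Or.inl (by decide +kernel)) (by decide +kernel)
    (by decide +kernel)

/-- a square root of an element of order 6 -/
def N6 : Matrix (Fin 6) (Fin 6) (ZMod 3) :=
  !![0, 1, 0, 0, 0, 0; 2, 0, 0, 0, 0, 0; 0, 0, 1, 1, 0, 0; 0, 0, 0, 1, 0, 0; 0, 0, 0, 0, 1, 0; 0, 0, 0, 0, 0, 1]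

theorem order6 : ∃ l : Ln 6, orderOf l = 2 * 3 :=
  order_sq (N := N6) (k := 1) (by norm_num) (by norm_num) (by norm_num) (Or.inl (by decide +kernel)) (by decide +kernel)
    (by decide +kernel)

end Cfsg.Agent.H421.AutSix
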