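import Mathlib

/-!
# The group `L₂(13) < PSL₆(3)` and its modules in characteristic 3 (helper421)

`main` : if `SL₆(3)` acts on an abelian group `V` of exponent 3, with `-1` acting trivially, so that no element of
order 7 has a nonzero fixed vector, then `V = 0`.

Proof: the subgroup `SL₂(13) = ⟨t, s⟩` (Weil representation) has a subgroup `D₁₂ = ⟨a, b, c⟩` modulo `-1`; there is a
common eigenvector `v ≠ 0` of `a`, `b`, fixed by `c` (of order 3).  The `91` vectors `g v` are permuted up to sign by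
`L₂(13)`, and for each of the four characters an explicit combination of sums over orbits of subgroups of order 7
(which are zero) is `v`.
-/

set_option autoImplicit false
set_option maxRecDepth 1000000

namespace Cfsg.Agent.H421.LThirteen

/-- matrices -/
abbrev M := Matrix (Fin 6) (Fin 6) (ZMod 3)
/-- the group -/
abbrev X := Matrix.SpecialLinearGroup (Fin 6) (ZMod 3)

/-- a matrix from its code in base 4 -/
def ofN (n : ℕ) : M := fun i j => (((n >>> (2 * (6 * i.val + j.val))) % 4 : ℕ) : ZMod 3)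

/-- generator of order 13 -/
def tM : M := ofN 2435118978655555032592
/-- generator with square `-1` -/
def sM : M := ofN 1328491107914843423840
/-- element with square `-1`, commuting with `cM` -/
def aM : M := ofN 1338835271527136761252
/-- element with square `-1`, inverting `cM` -/
def bM : M := ofN 2482897833261263312448
/-- element of order 3 -/
def cM : M := ofN 120361385607831093604

/-- codes of the coset representatives -/
def RL : List ℕ :=
  [1180663682709764194305, 2435118978655555032592, 170925144240955916368, 305695336079031878148,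
  597814052758676326949, 593039788038395630609, 296775147899876644993, 171036204876488656017,
  2970376553864280827200, 1512725692021567824520, 306130506302118599016, 2981465242029167575176,
  1518801072594016572804, 2527804225838878332516, 1291998893166855529002, 592648451497038980502,
  758622672778340933898, 407366954351674860905, 3104049260560664379489, 1558917639247447091810,
  766234922596681016645, 411061992474854850818, 2970005036714235872585, 1522293394023745226002,
  2974561848615986626662, 158627218074959763460, 2808540716644845120025, 1854519293768593971540,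
  2981889221599722244162, 1505830772773425942629, 2994756559646563133440, 2527573807505423357526,
  371263359135421393504, 739172878916428784901, 1210965375818087619233, 490569649839406192770,
  689845664646240225413, 1941546943424206760228, 2776906690184512678234, 3104243800041226265157,
  49185545075047306657, 24792775571449922630, 1257340373927770202661, 2510534455105836815488,
  765634527860467570757, 1589322989200017480072, 3119275434451586394198, 11637767733443560856,
  3072906395861557483153, 1648859131443641206934, 92902972796386811921, 184784491787321753618,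
  2808595218358719228482, 373583200546875507713, 747708545544646705256, 1505793264633719638421,
  1569419254036536034985, 3138833463308329451860, 1773848559395582345802, 371630644434109341706,
  3106713954206749846104, 595094001730804091136, 490356794288706226852, 3034507697756835319953,
  1628530425085907001697, 1942142833366107686997, 1257270195230452751017, 176009780014186783749,
  780818799932802672986, 399319096453823201609, 2851932649554830758278, 1870372673974751617562,
  1808403137844607994145, 2675228995176382944405, 1200774866012331140752, 1781941668134137129493,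
  2663543285394541479446, 1643569126521517114454, 92397680103579014154, 9261671954625160784,
  5207403076845183238, 2476576768127190765585, 1798727031476414993738, 176478499209584678146,
  117924861003727651457, 1667135373680908256800, 1964908296462011902309, 2753938824967500619880,
  314893262102143771137, 1192220092407631844773, 1874084709961701165584]

/-- codes of the elements of `D₁₂` -/
def HL : List ℕ :=
  [1180663682709764194305, 120361385607831093604, 97468742911134423361, 1338835271527136761252,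
  2513452375471028544853, 397326989842854291497, 2482897833261263312448, 342535172334055350341,
  387769333758170604938, 1865004100605776136549, 486052196543409297706, 1501719244653257714249]

/-- coset representatives -/
def R (k : ℕ) : M := ofN (RL.getD k 0)
/-- elements of `D₁₂` -/
def H (e : ℕ) : M := ofN (HL.getD e 0)

/-- action of `t` -/
def TT : List ℕ :=
  [24, 48, 72, 120, 168, 192, 240, 264, 312, 360, 384, 432, 3, 480, 528, 552, 600, 97, 624, 672, 696, 744, 768,
  816, 145, 840, 888, 936, 960, 1008, 1056, 352, 1080, 217, 1128, 1152, 429, 1200, 1248, 474, 582, 289, 1272,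
  1320, 1344, 1392, 1416, 1440, 1464, 1488, 1512, 1560, 1126, 988, 1584, 1377, 1632, 505, 1680, 1728, 1776,
  661, 1800, 1848, 1872, 1896, 1046, 721, 1944, 1618, 1303, 1184, 1968, 793, 1992, 2040, 865, 2064, 1760,
  2112, 913, 1243, 2037, 2106, 1722, 1937, 1844, 1553, 2180, 1670, 2156]

/-- action of `s` -/
def TS : List ℕ :=
  [29, 2, 96, 144, 49, 216, 73, 288, 336, 121, 408, 456, 169, 504, 193, 576, 405, 241, 648, 265, 720, 313, 792,
  574, 361, 864, 912, 433, 984, 1032, 481, 760, 1104, 529, 976, 1176, 601, 1224, 625, 954, 832, 673, 1296,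
  697, 1368, 1160, 769, 1284, 1090, 841, 1536, 889, 1477, 1140, 1009, 1608, 1656, 1057, 1704, 1752, 1698,
  1261, 1824, 1529, 1201, 1920, 1598, 1321, 1742, 1345, 1458, 1393, 1646, 1417, 2016, 1918, 1489, 2088, 1963,
  1822, 1561, 1891, 2136, 2160, 1777, 2046, 2115, 1849, 2068, 1969, 1993]

/-- parent and generator in the tree -/
def P : List ℕ :=
  [0, 0, 2, 4, 5, 6, 7, 8, 10, 11, 12, 14, 15, 16, 17, 18, 20, 21, 22, 23, 26, 27, 28, 30, 31, 32, 36, 37, 38,
  40, 41, 42, 44, 45, 46, 50, 51, 52, 53, 54, 56, 57, 58, 59, 60, 64, 65, 68, 70, 71, 74, 75, 76, 84, 85, 86,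
  88, 89, 90, 92, 94, 96, 98, 100, 101, 102, 108, 111, 112, 113, 116, 117, 118, 119, 120, 124, 125, 126, 128,
  130, 131, 136, 144, 148, 149, 150, 154, 155, 158, 165, 167]

/-- the word of the element `s₀` of order 7 -/
def w0 : ℕ := 17

/-- certificate: coefficient, word, starting point -/
def cert11 : List (ℤ × ℕ × ℕ) :=
  [(1, 1552, 5), (-1, 1, 5), (1, 388, 37), (-1, 401, 18), (1, 784, 1), (1, 24, 8), (-1, 417, 25), (1, 773, 2),
  (-1, 801, 37), (1, 1, 0), (1, 385, 0), (-1, 26, 20), (-1, 2, 1), (1, 400, 2), (-1, 400, 26), (-1, 3109, 18),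
  (1, 832, 25), (-1, 3, 8), (-1, 13, 8), (-1, 24, 18), (1, 1664, 18), (1, 3328, 18), (1, 6180, 20), (1, 776,
  37), (-1, 388, 3), (1, 194, 0), (-1, 417, 10), (1, 1600, 0), (1, 386, 10), (1, 401, 25), (1, 48, 1), (-1, 4,
  7), (-1, 386, 18), (-1, 401, 5), (1, 392, 0), (-1, 48, 20), (1, 98, 5), (1, 50, 0), (-1, 384, 26), (1, 194,
  20), (1, 25, 20), (1, 3109, 25), (1, 3136, 20)]

/-- certificate: coefficient, word, starting point -/
def cert12 : List (ℤ × ℕ × ℕ) :=
  [(-1, 389, 37), (-1, 6180, 5), (-1, 101, 3), (1, 1, 8), (-1, 192, 26), (1, 52, 2), (1, 784, 10), (1, 386, 10),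
  (-1, 1553, 3), (-1, 3201, 18), (1, 3077, 5), (-1, 773, 26), (-1, 1538, 1), (-1, 193, 2), (-1, 3333, 2), (1,
  50, 1), (1, 194, 1), (1, 96, 0), (1, 1553, 25), (-1, 200, 3), (-1, 769, 0), (-1, 416, 3), (-1, 1, 20), (1,
  100, 1), (1, 1554, 26), (-1, 832, 26), (1, 192, 0), (1, 98, 5), (1, 196, 20), (1, 3, 2), (1, 25, 37), (-1,
  2, 5), (-1, 770, 20), (-1, 3076, 2), (1, 104, 18), (1, 3090, 5), (-1, 3333, 5), (1, 773, 2), (1, 3109, 8)]

/-- certificate: coefficient, word, starting point -/
def cert21 : List (ℤ × ℕ × ℕ) :=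
  [(-1, 98, 20), (1, 385, 7), (-1, 6153, 5), (-1, 388, 20), (1, 193, 37), (-1, 386, 10), (-1, 1569, 2), (1, 785,
  10), (-1, 1540, 5), (1, 209, 0), (-1, 104, 25), (-1, 96, 0), (-1, 25, 20), (-1, 209, 2), (1, 13, 1), (1,
  194, 25), (-1, 3, 7), (-1, 389, 25), (1, 193, 10), (1, 6153, 25), (-1, 97, 5), (-1, 1541, 37), (-1, 25, 2),
  (1, 104, 10), (1, 194, 10), (1, 12, 26), (1, 100, 2), (1, 96, 5), (1, 770, 2), (-1, 1669, 8), (-1, 192, 8),
  (1, 1553, 18), (-1, 197, 37), (-1, 196, 37), (-1, 785, 7), (-1, 769, 5), (1, 2, 10), (-1, 25, 37), (-1,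
  3076, 10), (-1, 50, 7), (1, 4, 18), (1, 104, 0)]

/-- certificate: coefficient, word, starting point -/
def cert22 : List (ℤ × ℕ × ℕ) :=
  [(1, 48, 20), (1, 1552, 26), (-1, 13, 7), (1, 833, 26), (1, 4, 3), (-1, 773, 1), (1, 209, 5), (-1, 777, 0),
  (1, 1545, 37), (1, 1, 5), (-1, 3077, 18), (-1, 52, 7), (-1, 1540, 5), (-1, 25, 3), (1, 26, 5), (1, 13, 18),
  (1, 50, 7), (1, 776, 1), (1, 4, 2), (-1, 776, 26), (1, 385, 8), (1, 13, 10), (-1, 3328, 3), (-1, 1552, 0),
  (1, 1540, 2), (1, 1553, 26), (-1, 776, 25), (-1, 1, 26), (-1, 417, 18), (-1, 197, 26), (1, 3328, 37), (1,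
  24, 8), (-1, 1666, 18), (1, 772, 37), (-1, 389, 37), (-1, 6153, 10), (-1, 3, 2), (-1, 1553, 25), (1, 196,
  37), (1, 401, 3), (1, 25, 1), (1, 197, 25), (-1, 3, 0), (-1, 48, 0)]


/-- word from its code -/
def bits : ℕ → ℕ → List Bool
  | 0, _ => []
  | f + 1, n => if n ≤ 1 then [] else (n % 2 == 1) :: bits f (n / 2)

/-- generator -/
def gm (g : Bool) : M := if g then sM else tM

/-- table entry -/
def en (g : Bool) (k : ℕ) : ℕ := if g then TS.getD k 0 else TT.getD k 0

/-- sign change -/
def pm (b : Bool) (A : M) : M := if b then -A else A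

theorem tab_ok_true0 : ∀ k < 31, gm true * R (0 + k) =
    pm (en true (0 + k) % 2 == 1) (R (en true (0 + k) / 24) * H (en true (0 + k) / 2 % 12)) := by decide +kernel
theorem tab_ok_true31 : ∀ k < 30, gm true * R (31 + k) =
    pm (en true (31 + k) % 2 == 1) (R (en true (31 + k) / 24) * H (en true (31 + k) / 2 % 12)) := by decide +kernel
theorem tab_ok_true61 : ∀ k < 30, gm true * R (61 + k) =
    pm (en true (61 + k) % 2 == 1) (R (en true (61 + k) / 24) * H (en true (61 + k) / 2 % 12)) := by decide +kernel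
theorem tab_ok_false0 : ∀ k < 31, gm false * R (0 + k) =
    pm (en false (0 + k) % 2 == 1) (R (en false (0 + k) / 24) * H (en false (0 + k) / 2 % 12)) := by decide +kernel
theorem tab_ok_false31 : ∀ k < 30, gm false * R (31 + k) =
    pm (en false (31 + k) % 2 == 1) (R (en false (31 + k) / 24) * H (en false (31 + k) / 2 % 12)) := by decide +kernel
theorem tab_ok_false61 : ∀ k < 30, gm false * R (61 + k) =
    pm (en false (61 + k) % 2 == 1) (R (en false (61 + k) / 24) * H (en false (61 + k) / 2 % 12)) := by decide +kernel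

theorem tab_ok : ∀ g : Bool, ∀ k < 91,
    gm g * R k = pm (en g k % 2 == 1) (R (en g k / 24) * H (en g k / 2 % 12)) := by
  intro g k hk
  rcases Nat.lt_or_ge k 31 with h1 | h1
  · obtain ⟨j, rfl⟩ : ∃ j, k = 0 + j := ⟨k, (Nat.zero_add k).symm⟩
    have hj : j < 31 := by omega
    cases g
    · exact tab_ok_false0 j hj
    · exact tab_ok_true0 j hj
  · rcases Nat.lt_or_ge k 61 with h2 | h2
    · obtain ⟨j, rfl⟩ : ∃ j, k = 31 + j := ⟨k - 31, by omega⟩
      have hj : j < 30 := by omega
      cases g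
      · exact tab_ok_false31 j hj
      · exact tab_ok_true31 j hj
    · obtain ⟨j, rfl⟩ : ∃ j, k = 61 + j := ⟨k - 61, by omega⟩
      have hj : j < 30 := by omega
      cases g
      · exact tab_ok_false61 j hj
      · exact tab_ok_true61 j hj

theorem en_lt : ∀ g : Bool, ∀ k < 91, en g k / 24 < 91 := by decide +kernel

theorem H_ok : ∀ i < 3, ∀ j < 2, ∀ l < 2, H (i + 3 * j + 6 * l) = cM ^ i * aM ^ j * bM ^ l := by decide +kernel

theorem tree_ok : ∀ k < 91, 0 < k → P.getD k 0 / 2 < k ∧ en (P.getD k 0 % 2 == 1) (P.getD k 0 / 2) = 24 * k := by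
  decide +kernel

theorem R_zero : R 0 = 1 := by decide +kernel

theorem t_pow : tM ^ 13 = 1 := by decide +kernel
theorem st_pow : (sM * tM) ^ 3 = 1 := by decide +kernel
theorem at_pow : (aM * tM * tM) ^ 3 = 1 := by decide +kernel
theorem bt_pow : (bM * tM * tM) ^ 7 = 1 := by decide +kernel
theorem c_pow : cM ^ 3 = 1 := by decide +kernel
theorem a_sq : aM * aM = -1 := by decide +kernel
theorem b_sq : bM * bM = -1 := by decide +kernel
theorem ac : aM * cM = cM * aM := by decide +kernel
theorem cb : cM * bM = bM * (cM * cM) := by decide +kernel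
theorem ab : aM * bM = -(bM * aM) := by decide +kernel

/-! ### determinants and the elements -/

theorem det_of_pow {A B : M} (n : ℕ) (hn : ∀ x : ZMod 3, x ^ n = 1 → x = 1) (h : (A * B) ^ n = 1)
    (hB : B.det = 1) : A.det = 1 := by
  apply hn
  have h1 : ((A * B) ^ n).det = 1 := by rw [h, Matrix.det_one]
  rwa [Matrix.det_pow, Matrix.det_mul, hB, mul_one] at h1

theorem det_t : tM.det = 1 :=
  det_of_pow (B := 1) 13 (by decide) (by rw [mul_one]; exact t_pow) Matrix.det_one

theorem det_s : sM.det = 1 := det_of_pow 3 (by decide) st_pow det_t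

theorem det_a : aM.det = 1 :=
  det_of_pow 3 (by decide) (by rw [← mul_assoc]; exact at_pow) (by rw [Matrix.det_mul, det_t, mul_one])

theorem det_b : bM.det = 1 :=
  det_of_pow 7 (by decide) (by rw [← mul_assoc]; exact bt_pow) (by rw [Matrix.det_mul, det_t, mul_one])

theorem det_c : cM.det = 1 :=
  det_of_pow (B := 1) 3 (by decide) (by rw [mul_one]; exact c_pow) Matrix.det_one

/-- generators -/
def gx (g : Bool) : X := if g then ⟨sM, det_s⟩ else ⟨tM, det_t⟩

theorem gx_coe (g : Bool) : (gx g).1 = gm g := by cases g <;> rfl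

/-- the element `a` -/
def aX : X := ⟨aM, det_a⟩
/-- the element `b` -/
def bX : X := ⟨bM, det_b⟩
/-- the element `c` -/
def cX : X := ⟨cM, det_c⟩

theorem exists_r : ∀ k : ℕ, k < 91 → ∃ x : X, x.1 = R k := by
  intro k
  induction k using Nat.strong_induction_on with
  | _ k ih =>
    intro hk
    rcases Nat.eq_zero_or_pos k with rfl | h0
    · exact ⟨1, by rw [R_zero]; rfl⟩
    · obtain ⟨h1, h2⟩ := tree_ok k hk h0
      obtain ⟨x, hx⟩ := ih _ h1 (h1.trans hk)
      refine ⟨gx (P.getD k 0 % 2 == 1) * x, ?_⟩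
      have h3 := tab_ok (P.getD k 0 % 2 == 1) _ (h1.trans hk)
      rw [h2] at h3
      have h4 : (24 * k) / 24 = k := by omega
      have h5 : (24 * k) / 2 % 12 = 0 := by omega
      have h6 : ((24 * k) % 2 == 1) = false := by
        have : 24 * k % 2 = 0 := by omega
        rw [this]; rfl
      have h7 := H_ok 0 (by norm_num) 0 (by norm_num) 0 (by norm_num)
      rw [h4, h5, h6] at h3
      change (gx _).1 * x.1 = _
      rw [gx_coe, hx, h3]
      change R k * H 0 = R k
      have h8 : H 0 = 1 := by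
        have h9 : H (0 + 3 * 0 + 6 * 0) = H 0 := rfl
        rw [← h9, h7]
        simp
      rw [h8, mul_one]

open Classical in
/-- representatives -/
noncomputable def r (k : ℕ) : X := if h : ∃ x : X, x.1 = R k then h.choose else 1

theorem r_coe {k : ℕ} (hk : k < 91) : (r k).1 = R k := by
  unfold r
  rw [dif_pos (exists_r k hk)]
  exact (exists_r k hk).choose_spec

theorem r_zero : r 0 = 1 := by
  apply Subtype.ext
  rw [r_coe (by norm_num), R_zero]
  rfl

/-- elements of `D₁₂` -/
def hx (e : ℕ) : X := cX ^ (e % 3) * aX ^ (e / 3 % 2) * bX ^ (e / 6)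

theorem hx_coe {e : ℕ} (he : e < 12) : (hx e).1 = H e := by
  have h := H_ok (e % 3) (by omega) (e / 3 % 2) (by omega) (e / 6) (by omega)
  have h1 : e % 3 + 3 * (e / 3 % 2) + 6 * (e / 6) = e := by omega
  rw [h1] at h
  rw [h]
  unfold hx
  rw [Matrix.SpecialLinearGroup.coe_mul, Matrix.SpecialLinearGroup.coe_mul, Matrix.SpecialLinearGroup.coe_pow,
    Matrix.SpecialLinearGroup.coe_pow, Matrix.SpecialLinearGroup.coe_pow]
  rfl

/-! ### modules -/

section

variable {V : Type*} [AddCommGroup V] (ρ : X →* AddMonoid.End V)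

theorem mul_ap (f g : AddMonoid.End V) (u : V) : (f * g) u = f (g u) := rfl

/-- `-1` acts trivially -/
def Even1 : Prop := ∀ x y : X, x.1 = -y.1 → ρ x = ρ y

variable {ρ}

theorem rho_gen (hρ : Even1 ρ) (g : Bool) {k : ℕ} (hk : k < 91) :
    ρ (gx g * r k) = ρ (r (en g k / 24) * hx (en g k / 2 % 12)) := by
  have h := tab_ok g k hk
  have h1 : (gx g * r k).1 = gm g * R k := by
    rw [Matrix.SpecialLinearGroup.coe_mul]
    change (gx g).1 * (r k).1 = _
    rw [gx_coe, r_coe hk]
  have h2 : (r (en g k / 24) * hx (en g k / 2 % 12)).1 = R (en g k / 24) * H (en g k / 2 % 12) := by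
    rw [Matrix.SpecialLinearGroup.coe_mul]
    change (r _).1 * (hx _).1 = _
    rw [r_coe (en_lt g k hk), hx_coe (Nat.mod_lt _ (by norm_num))]
  cases hb : (en g k % 2 == 1) with
  | false =>
    rw [hb] at h
    rw [show gx g * r k = r (en g k / 24) * hx (en g k / 2 % 12) from
      Subtype.ext (by rw [h1, h2, h]; rfl)]
  | true =>
    rw [hb] at h
    exact hρ _ _ (by rw [h1, h2, h]; rfl)

/-- eigenvector -/
structure Ev (ρ : X →* AddMonoid.End V) (al be : ℤ) (v : V) : Prop where
  c : ρ cX v = v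
  a : ρ aX v = al • v
  b : ρ bX v = be • v

theorem pow_smul_eq (x : X) (z : ℤ) {v : V} (h : ρ x v = z • v) (n : ℕ) : ρ (x ^ n) v = z ^ n • v := by
  induction n with
  | zero => simp
  | succ n ih => rw [pow_succ, map_mul, mul_ap, h, map_zsmul, ih, ← mul_smul, pow_succ, mul_comm]

theorem Ev.hx {al be : ℤ} {v : V} (hv : Ev ρ al be v) (e : ℕ) :
    ρ (hx e) v = (al ^ (e / 3 % 2) * be ^ (e / 6)) • v := by
  have hc : ρ (cX ^ (e % 3)) v = v := by
    have := pow_smul_eq (ρ := ρ) (v := v) cX 1 (by rw [one_smul]; exact hv.c) (e % 3)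
    rwa [one_pow, one_smul] at this
  unfold LThirteen.hx
  rw [map_mul, map_mul, mul_ap, mul_ap, pow_smul_eq bX be hv.b, map_zsmul,
    pow_smul_eq aX al hv.a, map_zsmul, map_zsmul, hc, ← mul_smul, mul_comm]

/-- one step -/
def act1 (al be : ℤ) (g : Bool) (st : ℕ × ℤ) : ℕ × ℤ :=
  (en g st.1 / 24, st.2 * (al ^ (en g st.1 / 2 % 12 / 3 % 2) * be ^ (en g st.1 / 2 % 12 / 6)))

/-- action of a word -/
def actw (al be : ℤ) (w : List Bool) (st : ℕ × ℤ) : ℕ × ℤ := w.foldr (act1 al be) st

/-- the vector of a state -/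
noncomputable def vec (ρ : X →* AddMonoid.End V) (v : V) (st : ℕ × ℤ) : V := st.2 • ρ (r st.1) v

theorem act1_spec (hρ : Even1 ρ) {al be : ℤ} {v : V} (hv : Ev ρ al be v) (g : Bool) {st : ℕ × ℤ} (h : st.1 < 91) :
    ρ (gx g) (vec ρ v st) = vec ρ v (act1 al be g st) ∧ (act1 al be g st).1 < 91 := by
  refine ⟨?_, en_lt g _ h⟩
  unfold vec act1
  rw [map_zsmul, ← mul_ap, ← map_mul, rho_gen hρ g h, map_mul, mul_ap,
    hv.hx, map_zsmul, ← mul_smul]

/-- the element of a word -/
def wordX (w : List Bool) : X := (w.map gx).prod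

theorem actw_spec (hρ : Even1 ρ) {al be : ℤ} {v : V} (hv : Ev ρ al be v) (w : List Bool) {st : ℕ × ℤ}
    (h : st.1 < 91) : ρ (wordX w) (vec ρ v st) = vec ρ v (actw al be w st) ∧ (actw al be w st).1 < 91 := by
  induction w with
  | nil => exact ⟨by simp [wordX, actw], h⟩
  | cons g w ih =>
    obtain ⟨h1, h2⟩ := act1_spec hρ hv g ih.2
    refine ⟨?_, h2⟩
    unfold wordX
    rw [List.map_cons, List.prod_cons, map_mul, mul_ap]
    have h3 : ρ (List.map gx w).prod (vec ρ v st) = vec ρ v (actw al be w st) := ih.1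
    rw [h3, h1]
    rfl

/-- the element of order 7 -/
def s0 : X := wordX (bits 20 w0)

theorem s0_coe : s0.1 = (sM * tM) * (tM * tM) := by
  have h : bits 20 w0 = [true, false, false, false] := by decide +kernel
  unfold s0 wordX
  rw [h]
  simp only [List.map_cons, List.map_nil, List.prod_cons, List.prod_nil, mul_one, Matrix.SpecialLinearGroup.coe_mul]
  rw [← Matrix.mul_assoc]
  rfl

theorem s0_aux : ((sM * tM) * (tM * tM)) ^ 7 = 1 ∧ (sM * tM) * (tM * tM) ≠ 1 := by decide +kernel

theorem s0_pow : s0 ^ 7 = 1 := by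
  apply Subtype.ext
  rw [Matrix.SpecialLinearGroup.coe_pow]
  have h : (s0 : M) = (sM * tM) * (tM * tM) := s0_coe
  rw [h]
  exact s0_aux.1

theorem s0_ne : s0 ≠ 1 := by
  intro h
  apply s0_aux.2
  rw [← s0_coe, h]
  rfl

/-- the terms of one relation -/
def rterms (al be : ℤ) (c : ℤ × ℕ × ℕ) : List (ℕ × ℤ) :=
  (List.range 7).map fun i => actw al be (bits 20 c.2.1) ((actw al be (bits 20 w0))^[i] (c.2.2, c.1))

/-- all terms -/
def terms (al be : ℤ) (l : List (ℤ × ℕ × ℕ)) : List (ℕ × ℤ) := l.flatMap (rterms al be)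

theorem iter_spec (hρ : Even1 ρ) {al be : ℤ} {v : V} (hv : Ev ρ al be v) {st : ℕ × ℤ} (h : st.1 < 91) (i : ℕ) :
    ρ (s0 ^ i) (vec ρ v st) = vec ρ v ((actw al be (bits 20 w0))^[i] st) ∧
      ((actw al be (bits 20 w0))^[i] st).1 < 91 := by
  induction i with
  | zero => exact ⟨by simp, h⟩
  | succ i ih =>
    rw [Function.iterate_succ_apply']
    obtain ⟨h1, h2⟩ := actw_spec hρ hv (bits 20 w0) ih.2
    refine ⟨?_, h2⟩
    rw [pow_succ', map_mul, mul_ap, ih.1]
    exact h1

theorem sum_orbit (h7 : ∀ x : X, x ^ 7 = 1 → x ≠ 1 → ∀ v, ρ x v = v → v = 0) (u : V) :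
    ((List.range 7).map fun i => ρ (s0 ^ i) u).sum = 0 := by
  apply h7 s0 s0_pow s0_ne
  have h1 : ρ (s0 ^ 7) u = u := by rw [s0_pow, map_one]; rfl
  rw [map_list_sum]
  simp only [List.range_succ, List.range_zero, List.nil_append, List.cons_append, List.map_cons, List.map_nil,
    List.sum_cons, List.sum_nil]
  simp only [← mul_ap, ← map_mul, ← pow_succ']
  norm_num only at *
  rw [h1]
  simp only [pow_zero, map_one, AddMonoid.End.one_apply]
  abel

theorem rterms_lt {al be : ℤ} {v : V} (hρ : Even1 ρ) (hv : Ev ρ al be v) {c : ℤ × ℕ × ℕ} (hc : c.2.2 < 91)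
    {p : ℕ × ℤ} (hp : p ∈ rterms al be c) : p.1 < 91 := by
  obtain ⟨i, -, rfl⟩ := List.mem_map.1 hp
  exact (actw_spec hρ hv _ (iter_spec hρ hv (st := (c.2.2, c.1)) hc i).2).2

theorem rterms_sum (h7 : ∀ x : X, x ^ 7 = 1 → x ≠ 1 → ∀ v, ρ x v = v → v = 0) {al be : ℤ} {v : V} (hρ : Even1 ρ)
    (hv : Ev ρ al be v) {c : ℤ × ℕ × ℕ} (hc : c.2.2 < 91) : ((rterms al be c).map (vec ρ v)).sum = 0 := by
  have h1 : (rterms al be c).map (vec ρ v) =
      ((List.range 7).map fun i => ρ (s0 ^ i) (vec ρ v (c.2.2, c.1))).map (ρ (wordX (bits 20 c.2.1))) := by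
    unfold rterms
    rw [List.map_map, List.map_map]
    apply List.map_congr_left
    intro i _
    simp only [Function.comp]
    obtain ⟨h2, h3⟩ := iter_spec hρ hv (st := (c.2.2, c.1)) hc i
    rw [h2, (actw_spec hρ hv _ h3).1]
  rw [h1, ← map_list_sum, sum_orbit h7, map_zero]

/-- the coefficient of the `k`-th vector -/
def cs (l : List (ℕ × ℤ)) (k : ℕ) : ℤ := l.foldr (fun p a => if p.1 = k then p.2 + a else a) 0

theorem sum_eq_cs (v : V) {l : List (ℕ × ℤ)} (hl : ∀ p ∈ l, p.1 < 91) :
    (l.map (vec ρ v)).sum = ∑ k ∈ Finset.range 91, cs l k • ρ (r k) v := by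
  induction l with
  | nil => simp [cs]
  | cons p l ih =>
    have h0 : p.1 ∈ Finset.range 91 := Finset.mem_range.2 (hl p List.mem_cons_self)
    have h1 : ∀ k ∈ Finset.range 91, cs (p :: l) k • ρ (r k) v =
        (if p.1 = k then p.2 • ρ (r k) v else 0) + cs l k • ρ (r k) v := by
      intro k _
      have h2 : cs (p :: l) k = if p.1 = k then p.2 + cs l k else cs l k := rfl
      rw [h2]
      split_ifs with h3
      · rw [add_smul]
      · rw [zero_add]
    rw [List.map_cons, List.sum_cons, ih fun q hq => hl q (List.mem_cons_of_mem _ hq), Finset.sum_congr rfl h1,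
      Finset.sum_add_distrib, Finset.sum_ite_eq, if_pos h0]
    rfl

/-- the check of a certificate -/
def ok (al be : ℤ) (l : List (ℤ × ℕ × ℕ)) : Bool :=
  l.all (fun c => decide (c.2.2 < 91)) &&
    (List.range 91).all fun k => cs (terms al be l) k % 3 == if k = 0 then 1 else 0

theorem eq_zero_of_ok (h3 : ∀ v : V, (3 : ℤ) • v = 0) (hρ : Even1 ρ)
    (h7 : ∀ x : X, x ^ 7 = 1 → x ≠ 1 → ∀ v, ρ x v = v → v = 0) {al be : ℤ} {v : V} (hv : Ev ρ al be v)
    {l : List (ℤ × ℕ × ℕ)} (hl : ok al be l = true) : v = 0 := by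
  unfold ok at hl
  rw [Bool.and_eq_true, List.all_eq_true, List.all_eq_true] at hl
  have h0 : ∀ c ∈ l, c.2.2 < 91 := fun c hc => of_decide_eq_true (hl.1 c hc)
  have h1 : ((terms al be l).map (vec ρ v)).sum = 0 := by
    unfold terms
    rw [List.map_flatMap, List.flatMap_def, List.sum_flatten, List.map_map]
    apply List.sum_eq_zero
    intro x hx
    obtain ⟨c, hc, rfl⟩ := List.mem_map.1 hx
    exact rterms_sum h7 hρ hv (h0 c hc)
  have h2 : ∀ p ∈ terms al be l, p.1 < 91 := by
    intro p hp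
    obtain ⟨c, hc, hp'⟩ := List.mem_flatMap.1 hp
    exact rterms_lt hρ hv (h0 c hc) hp'
  rw [sum_eq_cs v h2] at h1
  have h4 : ∀ k ∈ Finset.range 91, cs (terms al be l) k • ρ (r k) v = if 0 = k then v else 0 := by
    intro k hk
    have h5 := hl.2 k (List.mem_range.2 (Finset.mem_range.1 hk))
    have h6 : cs (terms al be l) k % 3 = if k = 0 then 1 else 0 := by
      simpa using h5
    have h7' : cs (terms al be l) k = 3 * (cs (terms al be l) k / 3) + cs (terms al be l) k % 3 :=
      (Int.mul_ediv_add_emod _ _).symm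
    rw [h7', h6, add_smul, mul_comm, mul_smul, h3, smul_zero, zero_add]
    split_ifs with h8 h9 h9
    · subst h8
      rw [r_zero, map_one, one_smul]
      rfl
    · exact absurd h8.symm h9
    · exact absurd h9.symm h8
    · rw [zero_smul]
  rw [Finset.sum_congr rfl h4, Finset.sum_ite_eq, if_pos (Finset.mem_range.2 (by norm_num))] at h1
  exact h1

end

theorem ok11 : ok 1 1 cert11 = true := by decide +kernel
theorem ok12 : ok 1 (-1) cert12 = true := by decide +kernel
theorem ok21 : ok (-1) 1 cert21 = true := by decide +kernel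
theorem ok22 : ok (-1) (-1) cert22 = true := by decide +kernel

section

variable {V : Type*} [AddCommGroup V] {ρ : X →* AddMonoid.End V}

/-- **No module in characteristic 3 on which the elements of order 7 act fixed-point-freely.** -/
theorem main (h3 : ∀ v : V, (3 : ℤ) • v = 0) (hρ : Even1 ρ)
    (h7 : ∀ x : X, x ^ 7 = 1 → x ≠ 1 → ∀ v, ρ x v = v → v = 0) (v : V) : v = 0 := by
  by_contra hv
  have h3' : ∀ v : V, v + v + v = 0 := by
    intro v
    have := h3 v
    rwa [show (3 : ℤ) = 1 + 1 + 1 by norm_num, add_smul, add_smul, one_smul] at this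
  -- a vector fixed by `c`
  have hc3 : ρ cX * ρ cX * ρ cX = 1 := by
    rw [← map_mul, ← map_mul]
    have : cX * cX * cX = 1 := by
      apply Subtype.ext
      change (cM * cM * cM : M) = 1
      rw [← c_pow, pow_succ, pow_two]
    rw [this, map_one]
  have hc3' : ∀ w, ρ cX (ρ cX (ρ cX w)) = w := fun w => by
    have := DFunLike.congr_fun hc3 w
    simpa [mul_ap] using this
  obtain ⟨w, hw0, hw⟩ : ∃ w : V, w ≠ 0 ∧ ρ cX w = w := by
    by_cases h1 : ρ cX v - v = 0
    · exact ⟨v, hv, sub_eq_zero.1 h1⟩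
    · by_cases h2 : ρ cX (ρ cX v - v) - (ρ cX v - v) = 0
      · exact ⟨_, h1, sub_eq_zero.1 h2⟩
      · refine ⟨_, h2, ?_⟩
        rw [← sub_eq_zero]
        simp only [map_sub, hc3']
        have h4 := h3' (ρ cX v)
        have h5 := h3' (ρ cX (ρ cX v))
        have h6 : v - ρ cX (ρ cX v) - (ρ cX (ρ cX v) - ρ cX v) - (ρ cX (ρ cX v) - ρ cX v - (ρ cX v - v)) =
            (ρ cX v + ρ cX v + ρ cX v) - (ρ cX (ρ cX v) + ρ cX (ρ cX v) + ρ cX (ρ cX v)) := by abel
        rw [h6, h4, h5, sub_zero]
  have hsplit : ∀ (x : X), (∀ u, ρ x (ρ x u) = u) → ∀ (p : V → Prop), (∀ u, p u → p (ρ x u)) →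
      (∀ u u', p u → p u' → p (u + u')) → (∀ u, p u → p (-u)) → ∀ u, u ≠ 0 → p u →
      ∃ (e : ℤ) (u' : V), (e = 1 ∨ e = -1) ∧ u' ≠ 0 ∧ p u' ∧ ρ x u' = e • u' := by
    intro x hx p hp1 hp2 hp3 u hu hpu
    by_cases h1 : u + ρ x u = 0
    · refine ⟨-1, u, Or.inr rfl, hu, hpu, ?_⟩
      rw [neg_one_smul]
      exact (neg_eq_of_add_eq_zero_right h1).symm
    · refine ⟨1, u + ρ x u, Or.inl rfl, h1, hp2 _ _ hpu (hp1 _ hpu), ?_⟩
      rw [map_add, hx, one_smul, add_comm]
  have hneg : ∀ x y : X, x.1 = -y.1 → ρ x = ρ y := hρ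
  have haa : ∀ u, ρ aX (ρ aX u) = u := by
    intro u
    rw [← mul_ap, ← map_mul, hneg (aX * aX) 1 (by
      change aM * aM = -(1 : M); exact a_sq), map_one]
    rfl
  have hbb : ∀ u, ρ bX (ρ bX u) = u := by
    intro u
    rw [← mul_ap, ← map_mul, hneg (bX * bX) 1 (by
      change bM * bM = -(1 : M); exact b_sq), map_one]
    rfl
  have hac : ρ aX * ρ cX = ρ cX * ρ aX := by
    rw [← map_mul, ← map_mul, show aX * cX = cX * aX from Subtype.ext ac]
  have hcb : ρ cX * ρ bX = ρ bX * (ρ cX * ρ cX) := by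
    rw [← map_mul, ← map_mul, ← map_mul, show cX * bX = bX * (cX * cX) from Subtype.ext cb]
  have hab : ρ aX * ρ bX = ρ bX * ρ aX := by
    rw [← map_mul, ← map_mul]
    exact hneg _ _ ab
  -- `a`
  obtain ⟨al, w1, hal, hw1, hw1c, hw1a⟩ := hsplit aX haa (fun u => ρ cX u = u)
    (fun u hu => by
      have := DFunLike.congr_fun hac u
      simp only [mul_ap] at this
      rw [← this, hu])
    (fun u u' hu hu' => by rw [map_add, hu, hu']) (fun u hu => by rw [map_neg, hu]) w hw0 hw
  obtain ⟨be, w2, hbe, hw2, ⟨hw2c, hw2a⟩, hw2b⟩ := hsplit bX hbb (fun u => ρ cX u = u ∧ ρ aX u = al • u)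
    (fun u hu => by
      have h1 := DFunLike.congr_fun hcb u
      have h2 := DFunLike.congr_fun hab u
      simp only [mul_ap] at h1 h2
      exact ⟨by rw [h1, hu.1, hu.1], by rw [h2, hu.2, map_zsmul]⟩)
    (fun u u' hu hu' => ⟨by rw [map_add, hu.1, hu'.1], by rw [map_add, hu.2, hu'.2, smul_add]⟩)
    (fun u hu => ⟨by rw [map_neg, hu.1], by rw [map_neg, hu.2, smul_neg]⟩) w1 hw1 ⟨hw1c, hw1a⟩
  apply hw2
  have hE : Ev ρ al be w2 := ⟨hw2c, hw2a, hw2b⟩
  rcases hal with rfl | rfl <;> rcases hbe with rfl | rfl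
  · exact eq_zero_of_ok h3 hρ h7 hE ok11
  · exact eq_zero_of_ok h3 hρ h7 hE ok12
  · exact eq_zero_of_ok h3 hρ h7 hE ok21
  · exact eq_zero_of_ok h3 hρ h7 hE ok22

end

end Cfsg.Agent.H421.LThirteen
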