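import Cfsg.Agent.H421.AutSix
import Cfsg.Agent.H421.SixK
import Cfsg.Agent.S0243
import Cfsg.Agent.S2468
import Cfsg.Agent.S2470

/-!
# The groups with the prime graph of `PSL₆(3)` (helper421)
-/

set_option autoImplicit false

namespace Cfsg.Agent.H421.GraphSix

open Matrix
open Cfsg.Agent.H421.AutL Cfsg.Agent.H421.AutSix Cfsg.Agent.H421.Six Cfsg.Agent.H421.Act

universe u v w

/-- same prime graph -/
def SG (G : Type u) (H : Type v) [Group G] [Group H] : Prop :=
  (∀ p : ℕ, p.Prime → (p ∣ Nat.card G ↔ p ∣ Nat.card H)) ∧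
    (∀ p q : ℕ, p.Prime → q.Prime → p ≠ q → ((∃ g : G, orderOf g = p * q) ↔ (∃ g : H, orderOf g = p * q)))

theorem SG.symm {G : Type u} {H : Type v} [Group G] [Group H] (h : SG G H) : SG H G :=
  ⟨fun p hp => (h.1 p hp).symm, fun p q hp hq hpq => (h.2 p q hp hq hpq).symm⟩

theorem SG.trans {G : Type u} {H : Type v} {K : Type w} [Group G] [Group H] [Group K] (h : SG G H) (h' : SG H K) :
    SG G K :=
  ⟨fun p hp => (h.1 p hp).trans (h'.1 p hp), fun p q hp hq hpq => (h.2 p q hp hq hpq).trans (h'.2 p q hp hq hpq)⟩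

theorem SG.of_equiv {G : Type u} {H : Type v} [Group G] [Group H] (e : G ≃* H) : SG G H := by
  refine ⟨fun p _ => by rw [Nat.card_congr e.toEquiv], fun p q _ _ _ => ⟨?_, ?_⟩⟩
  · rintro ⟨g, hg⟩
    exact ⟨e g, by rw [MulEquiv.orderOf_eq, hg]⟩
  · rintro ⟨g, hg⟩
    exact ⟨e.symm g, by rw [MulEquiv.orderOf_eq, hg]⟩

theorem card_L6 : Nat.card (Ln 6) = 2 ^ 11 * 3 ^ 15 * 5 * 7 * 11 ^ 2 * 13 ^ 2 := by
  have h := Cfsg.Agent.S0243.result (F := ZMod 3) (q := 3) (ZMod.card 3) 6 (by norm_num)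
  rw [Fin.prod_univ_six] at h
  change _ = _ at h
  generalize Nat.card (Ln 6) = N at h ⊢
  norm_num at h
  norm_num
  omega

theorem prime_dvd (p : ℕ) (hp : p.Prime) : p ∣ Nat.card (Ln 6) ↔ p ∈ [2, 3, 5, 7, 11, 13] := by
  rw [card_L6]
  simp only [List.mem_cons, List.not_mem_nil, or_false]
  constructor
  · intro h
    rw [hp.dvd_mul, hp.dvd_mul, hp.dvd_mul, hp.dvd_mul, hp.dvd_mul] at h
    have h1 : ∀ q : ℕ, q.Prime → p ∣ q → p = q := fun q hq h => (Nat.prime_dvd_prime_iff_eq hp hq).1 h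
    rcases h with ((((h | h) | h) | h) | h) | h
    · have := h1 2 (by norm_num) (hp.dvd_of_dvd_pow h); omega
    · have := h1 3 (by norm_num) (hp.dvd_of_dvd_pow h); omega
    · have := h1 5 (by norm_num) h; omega
    · have := h1 7 (by norm_num) h; omega
    · have := h1 11 (by norm_num) (hp.dvd_of_dvd_pow h); omega
    · have := h1 13 (by norm_num) (hp.dvd_of_dvd_pow h); omega
  · rintro (rfl | rfl | rfl | rfl | rfl | rfl) <;> norm_num

theorem ord_mod {r k : ℕ} (hk : 0 < k) (h : (3 : ZMod r) ^ k = 1 ∧ ∀ m, m < k → 0 < m → (3 : ZMod r) ^ m ≠ 1) :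
    k = orderOf ((Fintype.card (ZMod 3) : ℕ) : ZMod r) := by
  rw [ZMod.card]
  exact ((orderOf_eq_iff hk).2 h).symm

theorem odd_pair {r s k l : ℕ} (hr : r.Prime) (hs : s.Prime) (hr2 : r ≠ 2) (hs2 : s ≠ 2) (hr3 : r ≠ 3) (hs3 : s ≠ 3)
    (hrs : r ≠ s) (hrG : r ∈ [2, 3, 5, 7, 11, 13]) (hsG : s ∈ [2, 3, 5, 7, 11, 13])
    (hk : k = orderOf ((Fintype.card (ZMod 3) : ℕ) : ZMod r)) (hl : l = orderOf ((Fintype.card (ZMod 3) : ℕ) : ZMod s))
    (h2k : 2 ≤ k) (hkl : k ≤ l) (h : 6 < k + l ∧ ¬ k ∣ l) (g : Ln 6) : orderOf g ≠ r * s := by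
  have : Fact (Nat.Prime 3) := ⟨by norm_num⟩
  intro hg
  exact (Cfsg.Agent.S2468.result (F := ZMod 3) 3 6 (by norm_num) (by norm_num) r s hr hs hr2 hs2 hr3 hs3 hrs
    ((prime_dvd r hr).2 hrG) ((prime_dvd s hs).2 hsG) k l hk hl h2k hkl).2 h ⟨g, hg⟩

theorem char_pair {r k : ℕ} (hr : r.Prime) (hr2 : r ≠ 2) (hr3 : r ≠ 3) (hrG : r ∈ [2, 3, 5, 7, 11, 13])
    (hk : k = orderOf ((Fintype.card (ZMod 3) : ℕ) : ZMod r)) (h : 6 - 2 < k) (g : Ln 6) : orderOf g ≠ r * 3 := by
  have : Fact (Nat.Prime 3) := ⟨by norm_num⟩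
  intro hg
  exact (Cfsg.Agent.S2470.result (F := ZMod 3) 3 6 (by norm_num) (by norm_num) r hr hr2 hr3
    ((prime_dvd r hr).2 hrG) k hk).2 (Or.inl h) ⟨g, hg⟩

theorem o5 : 4 = orderOf ((Fintype.card (ZMod 3) : ℕ) : ZMod 5) := ord_mod (by norm_num) (by decide)
theorem o7 : 6 = orderOf ((Fintype.card (ZMod 3) : ℕ) : ZMod 7) := ord_mod (by norm_num) (by decide)
theorem o11 : 5 = orderOf ((Fintype.card (ZMod 3) : ℕ) : ZMod 11) := ord_mod (by norm_num) (by decide)
theorem o13 : 3 = orderOf ((Fintype.card (ZMod 3) : ℕ) : ZMod 13) := ord_mod (by norm_num) (by decide)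

theorem gs_L : GS (Ln 6) where
  primes := prime_dvd
  n11 := by
    intro r hr hne g hg
    have h1 : r ∣ Nat.card (Ln 6) := (Dvd.intro_left 11 rfl).trans (hg ▸ orderOf_dvd_natCard g)
    rw [prime_dvd r hr] at h1
    simp only [List.mem_cons, List.not_mem_nil, or_false] at h1
    rcases h1 with rfl | rfl | rfl | rfl | rfl | rfl
    · exact no22_six g hg
    · exact char_pair (r := 11) (by norm_num) (by norm_num) (by norm_num) (by simp) o11 (by norm_num) g hg
    · exact odd_pair (r := 5) (s := 11) (by norm_num) (by norm_num) (by norm_num) (by norm_num) (by norm_num)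
        (by norm_num) (by norm_num) (by simp) (by simp) o5 o11 (by norm_num) (by norm_num) (by norm_num) g
        (by rw [hg])
    · exact odd_pair (r := 11) (s := 7) (by norm_num) (by norm_num) (by norm_num) (by norm_num) (by norm_num)
        (by norm_num) (by norm_num) (by simp) (by simp) o11 o7 (by norm_num) (by norm_num) (by norm_num) g
        (by rw [hg])
    · exact hne rfl
    · exact odd_pair (r := 13) (s := 11) (by norm_num) (by norm_num) (by norm_num) (by norm_num) (by norm_num)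
        (by norm_num) (by norm_num) (by simp) (by simp) o13 o11 (by norm_num) (by norm_num) (by norm_num) g
        (by rw [hg])
  n57 := fun g hg => odd_pair (r := 5) (s := 7) (by norm_num) (by norm_num) (by norm_num) (by norm_num) (by norm_num)
        (by norm_num) (by norm_num) (by simp) (by simp) o5 o7 (by norm_num) (by norm_num) (by norm_num) g
        (by rw [hg])
  n513 := fun g hg => odd_pair (r := 13) (s := 5) (by norm_num) (by norm_num) (by norm_num) (by norm_num) (by norm_num)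
        (by norm_num) (by norm_num) (by simp) (by simp) o13 o5 (by norm_num) (by norm_num) (by norm_num) g
        (by rw [hg])
  n37 := fun g hg => char_pair (r := 7) (by norm_num) (by norm_num) (by norm_num) (by simp) o7 (by norm_num) g
        (by rw [hg])

theorem gs_of_SG {G : Type u} [Group G] (h : SG (Ln 6) G) : GS G where
  primes := fun p hp => (h.1 p hp).symm.trans (prime_dvd p hp)
  n11 := by
    intro r hr hne g hg
    obtain ⟨g', hg'⟩ := (h.2 11 r (by norm_num) hr (Ne.symm hne)).2 ⟨g, hg⟩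
    exact gs_L.n11 r hr hne g' hg'
  n57 := by
    intro g hg
    obtain ⟨g', hg'⟩ := (h.2 5 7 (by norm_num) (by norm_num) (by norm_num)).2 ⟨g, hg⟩
    exact gs_L.n57 g' hg'
  n513 := by
    intro g hg
    obtain ⟨g', hg'⟩ := (h.2 5 13 (by norm_num) (by norm_num) (by norm_num)).2 ⟨g, hg⟩
    exact gs_L.n513 g' hg'
  n37 := by
    intro g hg
    obtain ⟨g', hg'⟩ := (h.2 3 7 (by norm_num) (by norm_num) (by norm_num)).2 ⟨g, hg⟩
    exact gs_L.n37 g' hg'

/-- no element of order 22 in the extensions -/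
theorem no22_Hd {d : ZMod 3} {α : MulAut (Ln 6)} (hα : α ∈ Hd d) : orderOf α ≠ 22 := by
  intro ho
  have h11 : α ^ 2 ≠ 1 := fun h => by
    have := orderOf_dvd_of_pow_eq_one h
    rw [ho] at this
    omega
  have h22 : (α ^ 2) ^ 11 = 1 := by rw [← pow_mul, show 2 * 11 = 22 by norm_num, ← ho, pow_orderOf_eq_one]
  obtain ⟨l, hl⟩ := mem_conj_of_odd ((Hd d).pow_mem hα 2) (m := 11) (by decide) h22
  have hl11 : l ^ 11 = 1 := by
    apply inn_injective
    rw [map_pow, ← hl, h22, map_one]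
  have hl1 : l ≠ 1 := by
    rintro rfl
    rw [map_one] at hl
    exact h11 hl
  rcases hα with ⟨A, hA, rfl⟩ | ⟨A, -, rfl⟩
  · obtain ⟨x, hx⟩ := c_of_det hA
    rw [hx, orderOf_injective _ inn_injective] at ho
    exact no22_six _ ho
  · refine not_fixed (A := A) (by norm_num) hl11 hl1 ?_
    apply inn_injective
    rw [conj_map, ← hl, ← pow_succ', pow_succ, mul_inv_cancel_right]

/-- the extensions have the prime graph of `PSL₆(3)` -/
theorem sg_Hd {d : ZMod 3} : SG (Ln 6) (Hd d) := by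
  have hinj : Function.Injective (fun l : Ln 6 => (⟨MulAut.conj l, conj_mem_Hd d l⟩ : Hd d)) := by
    intro a b hab
    exact inn_injective (congrArg Subtype.val hab)
  let ψ : Ln 6 →* Hd d := (MulAut.conj : Ln 6 →* MulAut (Ln 6)).codRestrict (Hd d) (conj_mem_Hd d)
  have hψ : Function.Injective ψ := hinj
  constructor
  · intro p hp
    constructor
    · intro h
      exact h.trans (Subgroup.card_dvd_of_injective ψ hψ)
    · intro h
      have : Fact p.Prime := ⟨hp⟩
      obtain ⟨x, hx⟩ := exists_prime_orderOf_dvd_card' (G := Hd d) p h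
      by_cases h2 : p = 2
      · rw [h2, prime_dvd 2 (by norm_num)]; simp
      · have hx' : (x : MulAut (Ln 6)) ^ p = 1 := by
          rw [← Subgroup.coe_pow, ← hx, pow_orderOf_eq_one]; rfl
        obtain ⟨l, hl⟩ := mem_conj_of_odd x.2 (hp.odd_of_ne_two h2) hx'
        have h3 : orderOf l = p := by
          rw [← orderOf_injective _ inn_injective l, ← hl, Subgroup.orderOf_coe, hx]
        rw [← h3]
        exact orderOf_dvd_natCard l
  · intro p q hp hq hpq
    constructor
    · rintro ⟨l, hl⟩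
      exact ⟨ψ l, by rw [orderOf_injective ψ hψ, hl]⟩
    · rintro ⟨x, hx⟩
      have hx' : orderOf (x : MulAut (Ln 6)) = p * q := by rw [Subgroup.orderOf_coe, hx]
      -- the case of an even order
      have key : ∀ r : ℕ, r.Prime → r ≠ 2 → ∀ y : Hd d, orderOf y = 2 * r → ∃ l : Ln 6, orderOf l = 2 * r := by
        intro r hr hr2 y hy
        have hy2 : (y ^ 2) ^ r = 1 := by rw [← pow_mul, ← hy, pow_orderOf_eq_one]
        have hy3 : orderOf (y ^ 2) = r := by
          rw [orderOf_pow' y two_ne_zero, hy, Nat.gcd_comm, Nat.gcd_mul_right_right, Nat.mul_div_cancel_left _ two_pos]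
        have hy4 : ((y ^ 2 : Hd d) : MulAut (Ln 6)) ^ r = 1 := by
          rw [← Subgroup.coe_pow, hy2]; rfl
        obtain ⟨l, hl⟩ := mem_conj_of_odd (y ^ 2 : Hd d).2 (hr.odd_of_ne_two hr2) hy4
        have h3 : orderOf l = r := by
          rw [← orderOf_injective _ inn_injective l, ← hl, Subgroup.orderOf_coe, hy3]
        have h4 : r ∣ Nat.card (Ln 6) := h3 ▸ orderOf_dvd_natCard l
        rw [prime_dvd r hr] at h4
        simp only [List.mem_cons, List.not_mem_nil, or_false] at h4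
        rcases h4 with rfl | rfl | rfl | rfl | rfl | rfl
        · exact absurd rfl hr2
        · exact order6
        · exact order10
        · exact order14
        · exfalso
          exact no22_Hd y.2 (by rw [Subgroup.orderOf_coe, hy])
        · exact order26
      by_cases hp2 : p = 2
      · subst hp2
        exact key q hq (Ne.symm hpq) x hx
      by_cases hq2 : q = 2
      · subst hq2
        rw [mul_comm] at hx ⊢
        exact key p hp hp2 x hx
      · have hodd : Odd (p * q) := (hp.odd_of_ne_two hp2).mul (hq.odd_of_ne_two hq2)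
        obtain ⟨l, hl⟩ := mem_conj_of_odd x.2 hodd (by rw [← hx', pow_orderOf_eq_one])
        exact ⟨l, by rw [← orderOf_injective _ inn_injective l, ← hl, hx']⟩

/-- **The groups with the prime graph of `PSL₆(3)`.** -/
theorem groups {G : Type} [Group G] [Finite G] (h : SG (Ln 6) G) :
    Nonempty (G ≃* Ln 6) ∨ Nonempty (G ≃* Hd 1) ∨ Nonempty (G ≃* Hd (-1)) := by
  have hgs := gs_of_SG h
  obtain ⟨K, hKn, S, hSn, hsec, hreal⟩ := six_section hgs
  have hK := six_K hgs hsec hreal
  subst hK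
  obtain ⟨F, iF, iF', hF, ⟨e0⟩⟩ := hreal
  let e2 : Ln 6 ≃* Matrix.ProjectiveSpecialLinearGroup (Fin 6) F :=
    Cfsg.Agent.LieClassical.FieldTransfer.pslCongr (FiniteField.ringEquivOfCardEq (K := ZMod 3) (K' := F)
      (by rw [hF, ZMod.card]))
  let e : S ≃* Ln 6 := e0.trans e2.symm
  let ψ : G ⧸ (⊥ : Subgroup G) →* MulAut (Ln 6) := (MulAut.congr e).toMonoidHom.comp (MulAut.conjNormal (H := S))
  have hψ : ∀ (x : G ⧸ (⊥ : Subgroup G)) (l : Ln 6), ψ x l = e (MulAut.conjNormal x (e.symm l)) := fun _ _ => rfl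
  have hψi : Function.Injective ψ := by
    rw [injective_iff_map_eq_one]
    intro x hx
    have h1 : x ∈ Subgroup.centralizer (S : Set (G ⧸ (⊥ : Subgroup G))) := by
      rw [Subgroup.mem_centralizer_iff]
      intro s hs
      have h2 := DFunLike.congr_fun hx (e ⟨s, hs⟩)
      rw [hψ, e.symm_apply_apply, MulAut.one_apply] at h2
      have h3 := congrArg Subtype.val (e.injective h2)
      rw [MulAut.conjNormal_apply] at h3
      change x * s * x⁻¹ = s at h3
      rw [mul_inv_eq_iff_eq_mul] at h3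
      exact h3.symm
    rw [hsec.cent, Subgroup.mem_bot] at h1
    exact h1
  have hI : ∀ l : Ln 6, MulAut.conj l ∈ ψ.range := by
    intro l
    refine ⟨(e.symm l : S), ?_⟩
    apply MulEquiv.ext
    intro m
    rw [hψ, MulAut.conj_apply]
    have h1 : MulAut.conjNormal ((e.symm l : S) : G ⧸ (⊥ : Subgroup G)) (e.symm m) = e.symm (l * m * l⁻¹) := by
      apply Subtype.ext
      rw [MulAut.conjNormal_apply, map_mul, map_mul, map_inv, Subgroup.coe_mul, Subgroup.coe_mul, Subgroup.coe_inv]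
    rw [h1, e.apply_symm_apply]
  have h22 : ∀ x ∈ ψ.range, orderOf x ≠ 22 := by
    rintro _ ⟨y, rfl⟩ hy
    rw [orderOf_injective ψ hψi] at hy
    obtain ⟨g, hg⟩ := lift_order' (K := (⊥ : Subgroup G)) ⟨y, hy⟩
    exact hgs.n11 2 (by norm_num) (by norm_num) g hg
  let E : G ≃* ψ.range := (QuotientGroup.quotientBot (G := G)).symm.trans (MonoidHom.ofInjective hψi)
  rcases classify ψ.range hI h22 with h1 | h1 | h1
  · left
    exact ⟨E.trans ((MulEquiv.subgroupCongr h1).trans (MonoidHom.ofInjective inn_injective).symm)⟩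
  · right; left
    exact ⟨E.trans (MulEquiv.subgroupCongr h1)⟩
  · right; right
    exact ⟨E.trans (MulEquiv.subgroupCongr h1)⟩

end Cfsg.Agent.H421.GraphSix
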